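import Cfsg.Agent.LargeExtra.W2.Iface
import Cfsg.Agent.LargeExtra.TwoCentral

/-!
# `Case9a` along isomorphisms of centralizers (helper314)

* `Large.conj_of_central` : an involution in the centre of a Sylow 2-subgroup is conjugate to `z` if `Large Q z`;
* `case9a_of_cent` : `Case9a` is a property of `C_G(z)`.
-/

set_option autoImplicit false
set_option linter.style.haveILetI false

namespace Cfsg.Agent.H314.CentTransfer

open Subgroup
open Cfsg.Agent.Co2Type.Quad Cfsg.Agent.LargeExtra.W2 Cfsg.Agent.LargeExtra.Base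

variable {K G : Type*} [Group K] [Group G]

section central

variable {Q : Subgroup G} {z : G}

/-- An element commuting with `Q` is `1` or `z`. -/
theorem eq_of_comm (h : Large Q z) {g : G} (hg : ∀ x ∈ Q, g * x = x * g) : g = 1 ∨ g = z :=
  h.cent g (h.self g (hg z h.z_mem) hg) hg

theorem isPGroup (h : Large Q z) : IsPGroup 2 Q := by
  intro x
  refine ⟨2, Subtype.ext ?_⟩
  have h1 : (x : G) * x = 1 ∨ (x : G) * x = z := h.sq x x.2
  change (x : G) ^ (2 ^ 2) = 1
  rw [show (2 : ℕ) ^ 2 = 2 * 2 from rfl, pow_mul, pow_two (x : G), pow_two]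
  rcases h1 with h1 | h1
  · rw [h1, one_mul]
  · rw [h1, h.z_sq]

/-- a Sylow 2-subgroup of `G` which contains `Q` and centralises `z` -/
theorem exists_sylow [Finite G] (h : Large Q z) :
    ∃ T : Sylow 2 G, Q ≤ T ∧ (T : Subgroup G) ≤ centralizer {z} := by
  have : Fact (Nat.Prime 2) := ⟨Nat.prime_two⟩
  have hQC : Q ≤ centralizer {z} := fun x hx => mem_centralizer_singleton_iff.2 (h.comm_z x hx)
  have hp : IsPGroup 2 (Q.subgroupOf (centralizer {z})) :=
    (isPGroup h).comap_of_injective _ (Subtype.val_injective)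
  obtain ⟨P, hP⟩ := hp.exists_le_sylow
  -- `P` mapped to `G`
  set T : Subgroup G := (P : Subgroup (centralizer ({z} : Set G))).map (centralizer {z}).subtype with hT
  have hTp : IsPGroup 2 T := P.isPGroup'.map _
  have hTC : T ≤ centralizer {z} := by
    rintro _ ⟨x, -, rfl⟩
    exact x.2
  have hcard : Nat.card T = Nat.card P :=
    Nat.card_congr ((P : Subgroup (centralizer ({z} : Set G))).equivMapOfInjective _
      (Subtype.val_injective)).toEquiv.symm
  have hodd := Cfsg.Agent.LargeExtra.TwoCentral.odd_index h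
  have hidx : ¬ 2 ∣ T.index := by
    have h1 : T.index = T.relIndex (centralizer {z}) * (centralizer ({z} : Set G)).index :=
      (relIndex_mul_index hTC).symm
    have h2 : T.relIndex (centralizer {z}) = (P : Subgroup (centralizer ({z} : Set G))).index := by
      rw [hT, relIndex, subgroupOf, comap_map_eq_self_of_injective Subtype.val_injective]
    rw [h1, h2]
    intro h3
    rcases (Nat.Prime.dvd_mul Nat.prime_two).1 h3 with h4 | h4
    · exact P.not_dvd_index h4
    · exact (Nat.not_even_iff_odd.2 hodd) (even_iff_two_dvd.2 h4)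
  refine ⟨hTp.toSylow hidx, ?_, hTC⟩
  intro x hx
  exact ⟨⟨x, hQC hx⟩, hP hx, rfl⟩

/-- An involution of the centre of a Sylow 2-subgroup is conjugate to `z`. -/
theorem conj_of_central [Finite G] (h : Large Q z) (U : Sylow 2 G) {t : G} (ht : t ≠ 1)
    (htU : t ∈ (U : Subgroup G)) (htc : ∀ u ∈ (U : Subgroup G), u * t = t * u) : ∃ g, g * t * g⁻¹ = z := by
  have : Fact (Nat.Prime 2) := ⟨Nat.prime_two⟩
  obtain ⟨T, hQT, -⟩ := exists_sylow h
  obtain ⟨g, hg⟩ := MulAction.exists_smul_eq G U T
  refine ⟨g, ?_⟩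
  have h1 : g * t * g⁻¹ ≠ 1 := by
    intro he
    apply ht
    calc t = g⁻¹ * (g * t * g⁻¹) * g := by group
      _ = 1 := by rw [he]; group
  refine (eq_of_comm h ?_).resolve_left h1
  intro x hx
  have hxT : x ∈ g • U := by rw [hg]; exact hQT hx
  have hxT' : x ∈ ((g • U : Sylow 2 G) : Subgroup G) := hxT
  rw [Sylow.coe_subgroup_smul, Subgroup.mem_pointwise_smul_iff_inv_smul_mem] at hxT'
  have h2 := htc _ hxT'
  have h3 : (MulAut.conj g)⁻¹ • x = g⁻¹ * x * g := by
    rw [← map_inv]
    simp [MulAut.smul_def]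
  rw [h3] at h2
  calc g * t * g⁻¹ * x = g * (t * (g⁻¹ * x * g)) * g⁻¹ := by group
    _ = g * ((g⁻¹ * x * g) * t) * g⁻¹ := by rw [h2]
    _ = x * (g * t * g⁻¹) := by group

end central

/-! ### transfer -/

section transfer

variable {Q : Subgroup K} {z i j k l x₁ x₂ s : K} {t : G}

theorem comm_of_mem (h : Case9a Q z i j k l x₁ x₂ s) {c : K} (hc : c ∈ ({i, j, k, l, x₁, x₂, s} : Set K)) :
    c ∈ centralizer ({z} : Set K) := by
  rw [h.cent]
  exact subset_closure hc

/-- `Case9a` is a property of the centralizer of `z` -/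
theorem case9a_of_cent (h : Case9a Q z i j k l x₁ x₂ s) (ht : t ≠ 1)
    (e : ↥(centralizer ({t} : Set G)) ≃* ↥(centralizer ({z} : Set K))) :
    ∃ (Q' : Subgroup G) (i' j' k' l' x₁' x₂' s' : G), Case9a Q' t i' j' k' l' x₁' x₂' s' := by
  have hzC : z ∈ centralizer ({z} : Set K) := mem_centralizer_singleton_iff.2 rfl
  have htC : t ∈ centralizer ({t} : Set G) := mem_centralizer_singleton_iff.2 rfl
  have hQC : Q ≤ centralizer {z} := fun x hx => mem_centralizer_singleton_iff.2 (h.large.comm_z x hx)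
  -- `e t = z`
  have hez : e ⟨t, htC⟩ = ⟨z, hzC⟩ := by
    have h1 : ∀ x ∈ Q, ((e ⟨t, htC⟩ : _) : K) * x = x * (e ⟨t, htC⟩ : _) := by
      intro x hx
      have h2 : (⟨t, htC⟩ : ↥(centralizer ({t} : Set G))) * e.symm ⟨x, hQC hx⟩ =
          e.symm ⟨x, hQC hx⟩ * ⟨t, htC⟩ := by
        apply Subtype.ext
        exact (mem_centralizer_singleton_iff.1 (e.symm ⟨x, hQC hx⟩).2).symm
      have h3 := congrArg e h2
      rw [map_mul, map_mul, e.apply_symm_apply] at h3
      exact congrArg Subtype.val h3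
    rcases eq_of_comm h.large h1 with h2 | h2
    · exfalso
      apply ht
      have h3 : e ⟨t, htC⟩ = 1 := Subtype.ext h2
      rw [MulEquiv.map_eq_one_iff] at h3
      exact congrArg Subtype.val h3
    · exact Subtype.ext h2
  have hI := comm_of_mem h (c := i) (by simp)
  have hJ := comm_of_mem h (c := j) (by simp)
  have hK := comm_of_mem h (c := k) (by simp)
  have hL := comm_of_mem h (c := l) (by simp)
  have hX := comm_of_mem h (c := x₁) (by simp)
  have hY := comm_of_mem h (c := x₂) (by simp)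
  have hS := comm_of_mem h (c := s) (by simp)
  let φ : ↥(centralizer ({z} : Set K)) →* G := (centralizer ({t} : Set G)).subtype.comp e.symm.toMonoidHom
  have φinj : Function.Injective φ := Subtype.val_injective.comp e.symm.injective
  have φz : φ ⟨z, hzC⟩ = t := by
    change ((e.symm ⟨z, hzC⟩ : _) : G) = t
    rw [← hez, e.symm_apply_apply]
  have φcomm : ∀ c, φ c * t = t * φ c := fun c => mem_centralizer_singleton_iff.1 (e.symm c).2
  have φsurj : ∀ g : G, g * t = t * g → ∃ c, φ c = g := by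
    intro g hg
    refine ⟨e ⟨g, mem_centralizer_singleton_iff.2 hg⟩, ?_⟩
    change ((e.symm (e _) : _) : G) = g
    rw [e.symm_apply_apply]
  have φran : φ.range = centralizer {t} := by
    ext g
    constructor
    · rintro ⟨c, rfl⟩
      exact mem_centralizer_singleton_iff.2 (φcomm c)
    · intro hg
      exact φsurj g (mem_centralizer_singleton_iff.1 hg)
  clear_value φ
  -- Q'
  set Q₀ := Q.subgroupOf (centralizer {z}) with hQ₀
  have hQ₀c : Q₀.map (centralizer ({z} : Set K)).subtype = Q := by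
    rw [hQ₀, subgroupOf_map_subtype, inf_eq_left]; exact hQC
  -- equations
  have eqn : ∀ {a b : ↥(centralizer ({z} : Set K))}, (a : K) = b → φ a = φ b := fun hab =>
    congrArg φ (Subtype.ext hab)
  have hφ1 : ∀ c, φ c = 1 ↔ (c : K) = 1 := by
    intro c
    constructor
    · intro hc
      have : c = 1 := φinj (by rw [hc, map_one])
      rw [this]; rfl
    · intro hc
      have : c = 1 := Subtype.ext hc
      rw [this, map_one]
  have hφz : ∀ c, φ c = t ↔ (c : K) = z := by
    intro c
    constructor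
    · intro hc
      have : c = ⟨z, hzC⟩ := φinj (by rw [hc, φz])
      rw [this]
    · intro hc
      have : c = ⟨z, hzC⟩ := Subtype.ext hc
      rw [this, φz]
  have large : Large (Q₀.map φ) t := by
    refine ⟨⟨⟨z, hzC⟩, h.large.z_mem, φz⟩, ht, ?_, ?_, ?_, ?_, ?_, ?_, ?_⟩
    · rw [← φz, ← map_mul, hφ1]
      exact h.large.z_sq
    · rintro _ ⟨x, -, rfl⟩
      exact φcomm x
    · rintro g hg _ ⟨x, hx, rfl⟩
      obtain ⟨c, rfl⟩ := φsurj g hg
      refine ⟨c * x * c⁻¹, h.large.conj_mem c (mem_centralizer_singleton_iff.1 c.2) x hx, ?_⟩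
      simp
    · rintro _ ⟨x, hx, rfl⟩
      rcases h.large.sq x hx with h1 | h1
      · left
        rw [← map_mul, hφ1]; exact h1
      · right
        rw [← map_mul, hφz]; exact h1
    · rintro _ ⟨x, hx, rfl⟩ _ ⟨y, hy, rfl⟩
      rcases h.large.comm x hx y hy with h1 | h1
      · left
        rw [← map_mul, ← map_mul]; exact eqn h1
      · right
        rw [← φz, ← map_mul, ← map_mul, ← map_mul]; exact eqn h1
    · rintro _ ⟨x, hx, rfl⟩ h2
      have h3 : ∀ y ∈ Q, (x : K) * y = y * x := by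
        intro y hy
        have h4 := h2 (φ ⟨y, hQC hy⟩) ⟨⟨y, hQC hy⟩, hy, rfl⟩
        rw [← map_mul, ← map_mul] at h4
        exact congrArg Subtype.val (φinj h4)
      rcases h.large.cent x hx h3 with h4 | h4
      · left; exact (hφ1 x).2 h4
      · right; exact (hφz x).2 h4
    · intro g hg h2
      obtain ⟨x, rfl⟩ := φsurj g hg
      have h3 : ∀ y ∈ Q, (x : K) * y = y * x := by
        intro y hy
        have h4 := h2 (φ ⟨y, hQC hy⟩) ⟨⟨y, hQC hy⟩, hy, rfl⟩
        rw [← map_mul, ← map_mul] at h4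
        exact congrArg Subtype.val (φinj h4)
      exact ⟨x, h.large.self x (mem_centralizer_singleton_iff.1 x.2) h3, rfl⟩
  have cardQ : Nat.card (Q₀.map φ) = 32 := by
    have h1 : Nat.card (Q₀.map φ) = Nat.card Q₀ :=
      Nat.card_congr (Q₀.equivMapOfInjective φ φinj).toEquiv.symm
    have h2 : Nat.card (Q₀.map (centralizer ({z} : Set K)).subtype) = Nat.card Q₀ :=
      Nat.card_congr (Q₀.equivMapOfInjective _ Subtype.val_injective).toEquiv.symm
    rw [h1, ← h2, hQ₀c, h.card]
  have clos : ∀ (S : Set ↥(centralizer ({z} : Set K))) (M : Subgroup K), M ≤ centralizer {z} →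
      M = closure (((↑) : ↥(centralizer ({z} : Set K)) → K) '' S) →
      (M.subgroupOf (centralizer {z})).map φ = closure (φ '' S) := by
    intro S M hM hMS
    have h1 : (M.subgroupOf (centralizer {z})) = closure S := by
      have hinj : Function.Injective (centralizer ({z} : Set K)).subtype := Subtype.val_injective
      apply Subgroup.map_injective hinj
      rw [subgroupOf_map_subtype, inf_eq_left.2 hM, MonoidHom.map_closure]
      exact hMS
    rw [h1, MonoidHom.map_closure]
  refine ⟨Q₀.map φ, φ ⟨i, hI⟩, φ ⟨j, hJ⟩, φ ⟨k, hK⟩, φ ⟨l, hL⟩, φ ⟨x₁, hX⟩, φ ⟨x₂, hY⟩, φ ⟨s, hS⟩, ?_⟩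
  have act : ∀ {c i' j' k' l' : K} (hc : c ∈ centralizer ({z} : Set K)) (hi : i' ∈ centralizer ({z} : Set K))
      (hj : j' ∈ centralizer ({z} : Set K)) (hk : k' ∈ centralizer ({z} : Set K))
      (hl : l' ∈ centralizer ({z} : Set K)), Act z i j k l c i' j' k' l' →
      Act t (φ ⟨i, hI⟩) (φ ⟨j, hJ⟩) (φ ⟨k, hK⟩) (φ ⟨l, hL⟩) (φ ⟨c, hc⟩) (φ ⟨i', hi⟩) (φ ⟨j', hj⟩)
        (φ ⟨k', hk⟩) (φ ⟨l', hl⟩) := by
    intro c i' j' k' l' hc hi hj hk hl ha
    refine ⟨?_, ?_, ?_, ?_, ?_⟩
    · rw [φcomm, mul_inv_cancel_right]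
    · rw [← map_inv, ← map_mul, ← map_mul]; exact eqn ha.i
    · rw [← map_inv, ← map_mul, ← map_mul]; exact eqn ha.j
    · rw [← map_inv, ← map_mul, ← map_mul]; exact eqn ha.k
    · rw [← map_inv, ← map_mul, ← map_mul]; exact eqn ha.l
  exact
    { large := large
      card := cardQ
      gen := by
        have h1 := clos {⟨i, hI⟩, ⟨j, hJ⟩, ⟨k, hK⟩, ⟨l, hL⟩} Q hQC (by
          simp only [Set.image_insert_eq, Set.image_singleton]
          exact h.gen)
        simpa only [Set.image_insert_eq, Set.image_singleton] using h1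
      ii := by rw [← φz, ← map_mul]; exact eqn h.ii
      jj := by rw [← φz, ← map_mul]; exact eqn h.jj
      kk := by rw [← φz, ← map_mul]; exact eqn h.kk
      ll := by rw [← φz, ← map_mul]; exact eqn h.ll
      ji := by rw [← φz, ← map_mul, ← map_mul, ← map_mul]; exact eqn h.ji
      lk := by rw [← φz, ← map_mul, ← map_mul, ← map_mul]; exact eqn h.lk
      ki := by rw [← map_mul, ← map_mul]; exact eqn h.ki
      li := by rw [← map_mul, ← map_mul]; exact eqn h.li
      kj := by rw [← map_mul, ← map_mul]; exact eqn h.kj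
      lj := by rw [← map_mul, ← map_mul]; exact eqn h.lj
      x₁3 := by rw [← map_pow, hφ1]; exact h.x₁3
      x₂3 := by rw [← map_pow, hφ1]; exact h.x₂3
      x₁_act := by
        have := act hX hJ (mul_mem hI hJ) hK hL h.x₁_act
        have e1 : φ ⟨i * j, mul_mem hI hJ⟩ = φ ⟨i, hI⟩ * φ ⟨j, hJ⟩ := by rw [← map_mul]; rfl
        rwa [e1] at this
      x₂_act := by
        have := act hY hI hJ hL (mul_mem hK hL) h.x₂_act
        have e1 : φ ⟨k * l, mul_mem hK hL⟩ = φ ⟨k, hK⟩ * φ ⟨l, hL⟩ := by rw [← map_mul]; rfl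
        rwa [e1] at this
      s_act := act hS hK hL hI hJ h.s_act
      xx := by rw [← map_mul, ← map_mul]; exact eqn h.xx
      s1 := by rw [← map_inv, ← map_mul, ← map_mul]; exact eqn h.s1
      s2 := by rw [← map_inv, ← map_mul, ← map_mul]; exact eqn h.s2
      ss := by
        rcases h.ss with h1 | h1
        · left; rw [← map_mul, hφ1]; exact h1
        · right; rw [← map_mul, hφz]; exact h1
      cent := by
        have h1 := clos {⟨i, hI⟩, ⟨j, hJ⟩, ⟨k, hK⟩, ⟨l, hL⟩, ⟨x₁, hX⟩, ⟨x₂, hY⟩, ⟨s, hS⟩}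
          (centralizer {z}) le_rfl (by
          simp only [Set.image_insert_eq, Set.image_singleton]
          exact h.cent)
        rw [subgroupOf_self, ← MonoidHom.range_eq_map, φran] at h1
        simpa only [Set.image_insert_eq, Set.image_singleton] using h1
      card_cent := by
        rw [Nat.card_congr e.toEquiv, h.card_cent] }

end transfer

end Cfsg.Agent.H314.CentTransfer
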