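import Cfsg.Agent.H593.IMPairs
import Cfsg.Agent.H149.Sp.Engine

/-!
# Itô-Michler: inverted elements of prime order (helper314)

`IM_of_real`: `p` odd, `p` divides `|G|` exactly once, the involution `u` inverts an element `v` of order `p` whose
centralizer has odd order, and `|C(u)|`, `|C(u) ∩ N(⟨v⟩)|` are not congruent modulo `p`.
`IM_of_not_real`: no element of order `p` is inverted by `u`.
-/

set_option autoImplicit false

namespace Cfsg.Agent.H314.IMInv

open Subgroup Cfsg Cfsg.Agent.H33 Cfsg.Agent.H149.Sp.Eng Cfsg.Agent.H593.IMPairs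

universe u

variable {G : Type u} [Group G]

theorem mem_cent {u g : G} : g ∈ centralizer ({u} : Set G) ↔ g * u = u * g := by
  rw [mem_centralizer_singleton_iff]

/-- The involutions inverting `v` are conjugate under `C(v)`. -/
theorem exists_conj_inv [Finite G] {u w v : G} (hu : u * u = 1) (hw : w * w = 1)
    (huv : u * v * u⁻¹ = v⁻¹) (hwv : w * v * w⁻¹ = v⁻¹) (hodd : ¬ 2 ∣ Nat.card (centralizer ({v} : Set G))) :
    ∃ c ∈ centralizer ({v} : Set G), c * w * c⁻¹ = u := by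
  have hui : u⁻¹ = u := inv_eq_of_mul_eq_one_left hu
  have hwi : w⁻¹ = w := inv_eq_of_mul_eq_one_left hw
  have hx : u * w ∈ centralizer ({v} : Set G) := by
    rw [mem_cent, ← mul_inv_eq_iff_eq_mul]
    calc u * w * v * (u * w)⁻¹ = u * (w * v * w⁻¹) * u⁻¹ := by group
      _ = (u * v * u⁻¹)⁻¹ := by rw [hwv]; group
      _ = v := by rw [huv, inv_inv]
  have hn : Odd (orderOf (u * w)) := by
    rw [← Nat.not_even_iff_odd, even_iff_two_dvd]
    intro h
    apply hodd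
    have h1 : orderOf (⟨u * w, hx⟩ : centralizer ({v} : Set G)) = orderOf (u * w) := by rw [← orderOf_coe]
    exact (h1 ▸ h).trans (orderOf_dvd_natCard _)
  obtain ⟨m, hm⟩ := hn
  have hinv : ∀ j : ℕ, (u * w) ^ j * u = u * ((u * w) ^ j)⁻¹ := by
    intro j
    have h1 : u⁻¹ * (u * w) ^ j * u = ((u * w) ^ j)⁻¹ := by
      have h2 := conj_pow (a := u⁻¹) (b := u * w) (i := j)
      rw [inv_inv] at h2
      rw [← h2, ← inv_pow]
      congr 1
      rw [mul_inv_rev, hui, hwi, ← mul_assoc, hu, one_mul]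
    rw [← h1]; group
  refine ⟨(u * w) ^ (m + 1), pow_mem hx _, ?_⟩
  have h3 : w = u * (u * w) := by rw [← mul_assoc, hu, one_mul]
  have h4 : (u * w) * (u * w)⁻¹ ^ (m + 1) * (u * w)⁻¹ ^ (m + 1) = 1 := by
    have h5 : (u * w) ^ (2 * m + 1) = 1 := by rw [← hm]; exact pow_orderOf_eq_one _
    have h6 : (u * w)⁻¹ ^ (m + 1) * (u * w)⁻¹ ^ (m + 1) = (u * w)⁻¹ := by
      rw [← pow_add, show m + 1 + (m + 1) = (2 * m + 1) + 1 by ring, pow_succ, inv_pow, h5, inv_one, one_mul]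
    rw [mul_assoc, h6, mul_inv_cancel]
  calc (u * w) ^ (m + 1) * w * ((u * w) ^ (m + 1))⁻¹
      = ((u * w) ^ (m + 1) * u) * (u * w) * ((u * w) ^ (m + 1))⁻¹ := by
        rw [mul_assoc ((u * w) ^ (m + 1)) u (u * w), ← h3]
    _ = u * ((u * w)⁻¹ ^ (m + 1) * (u * w) * (u * w)⁻¹ ^ (m + 1)) := by
        rw [hinv, ← inv_pow]; group
    _ = u * ((u * w) * (u * w)⁻¹ ^ (m + 1) * (u * w)⁻¹ ^ (m + 1)) := by
        have h7 : Commute ((u * w)⁻¹ ^ (m + 1)) (u * w) := ((Commute.refl (u * w)).inv_left).pow_left _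
        rw [h7.eq]
    _ = u := by rw [h4, mul_one]

/-- the elements of order `p` inverted by `u` -/
abbrev Inv (p : ℕ) (u : G) : Type u := {x : G // orderOf x = p ∧ u * x * u⁻¹ = x⁻¹}

section

variable [Finite G] {p : ℕ} [hp : Fact p.Prime]

omit hp in
/-- two elements of order `p` generate conjugate subgroups -/
theorem exists_conj_zpowers (hp : p.Prime) (hpG : ¬ p ^ 2 ∣ Nat.card G) {v z : G} (hv : orderOf v = p) (hz : orderOf z = p) :
    ∃ g : G, g * z * g⁻¹ ∈ zpowers v := by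
  have hf : Fact p.Prime := ⟨hp⟩
  obtain ⟨P, hP⟩ := exists_sylow hp hpG hv
  obtain ⟨Q, hQ⟩ := exists_sylow hp hpG hz
  obtain ⟨g, hg⟩ := MulAction.exists_smul_eq G Q P
  refine ⟨g, ?_⟩
  have h1 : (g • Q : Sylow p G) = P := hg
  have h2 : g * z * g⁻¹ ∈ ((g • Q : Sylow p G) : Subgroup G) := by
    rw [Sylow.coe_subgroup_smul, Subgroup.mem_pointwise_smul_iff_inv_smul_mem]
    have h3 : (MulAut.conj g)⁻¹ • (g * z * g⁻¹) = z := by
      rw [inv_smul_eq_iff]
      rfl
    rw [h3, hQ]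
    exact mem_zpowers z
  rw [h1, hP] at h2
  exact h2

/-- `p` divides the class size of an involution -/
theorem dvd_index (hdG : p ∣ Nat.card G) (hpG : ¬ p ^ 2 ∣ Nat.card G) {u v : G}
    (hu1 : u ≠ 1) (hu : u * u = 1) (hv : orderOf v = p) (hodd : ¬ 2 ∣ Nat.card (centralizer ({v} : Set G))) :
    p ∣ (centralizer ({u} : Set G)).index := by
  have h1 := (centralizer ({u} : Set G)).card_mul_index
  rcases (hp.out.dvd_mul.1 (h1 ▸ hdG : p ∣ Nat.card (centralizer ({u} : Set G)) * _)) with h | h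
  · exfalso
    obtain ⟨z, hz⟩ := exists_prime_orderOf_dvd_card' p h
    have hz' : orderOf (z : G) = p := by rw [orderOf_coe, hz]
    obtain ⟨g, hg⟩ := exists_conj_zpowers hp.out hpG hz' hv
    obtain ⟨n, hn⟩ := mem_zpowers_iff.1 hg
    have hzu : (z : G) * u = u * z := mem_cent.1 z.2
    have h2 : v * (g⁻¹ * u * g) = g⁻¹ * u * g * v := by
      have h3 : v = g⁻¹ * ((z : G) ^ n) * g := by rw [hn]; group
      have h4 : ((z : G) ^ n) * u = u * (z : G) ^ n := (Commute.zpow_left (show Commute (z : G) u from hzu) n).eq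
      rw [h3]
      calc g⁻¹ * (z : G) ^ n * g * (g⁻¹ * u * g) = g⁻¹ * ((z : G) ^ n * u) * g := by group
        _ = g⁻¹ * (u * (z : G) ^ n) * g := by rw [h4]
        _ = g⁻¹ * u * g * (g⁻¹ * (z : G) ^ n * g) := by group
    apply hodd
    have h5 : g⁻¹ * u * g ∈ centralizer ({v} : Set G) := mem_cent.2 h2.symm
    have h6 : orderOf (⟨g⁻¹ * u * g, h5⟩ : centralizer ({v} : Set G)) = 2 := by
      rw [orderOf_eq_prime_iff]
      constructor
      · apply Subtype.ext
        show (g⁻¹ * u * g) ^ 2 = 1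
        rw [pow_two]
        calc g⁻¹ * u * g * (g⁻¹ * u * g) = g⁻¹ * (u * u) * g := by group
          _ = 1 := by rw [hu]; group
      · intro h
        have h7 : g⁻¹ * u * g = 1 := congrArg Subtype.val h
        apply hu1
        calc u = g * (g⁻¹ * u * g) * g⁻¹ := by group
          _ = 1 := by rw [h7]; group
    rw [← h6]
    exact orderOf_dvd_natCard _
  · exact h

/-- the number of the inverted `p`-elements -/
theorem card_inverted (hpG : ¬ p ^ 2 ∣ Nat.card G) (u : G) :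
    Nat.card {x : G // (∃ k : ℕ, orderOf x = p ^ k) ∧ u * x * u⁻¹ = x⁻¹} = 1 + Nat.card (Inv p u) := by
  classical
  have hk : ∀ x : G, (∃ k : ℕ, orderOf x = p ^ k) → x = 1 ∨ orderOf x = p := by
    rintro x ⟨k, hk⟩
    rcases k with - | - | k
    · left
      rw [pow_zero] at hk
      exact orderOf_eq_one_iff.1 hk
    · right
      rw [hk, zero_add, pow_one]
    · exfalso
      apply hpG
      have h1 : p ^ 2 ∣ orderOf x := by rw [hk]; exact pow_dvd_pow p (by omega)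
      exact h1.trans (orderOf_dvd_natCard x)
  have h1 : Nat.card (Option (Inv p u)) = 1 + Nat.card (Inv p u) := by
    rw [Finite.card_option, add_comm]
  rw [← h1]
  symm
  let f : Option (Inv p u) → {x : G // (∃ k : ℕ, orderOf x = p ^ k) ∧ u * x * u⁻¹ = x⁻¹} := fun o =>
    o.elim ⟨1, ⟨0, by rw [orderOf_one, pow_zero]⟩, by group⟩ fun x => ⟨x.1, ⟨1, by rw [x.2.1, pow_one]⟩, x.2.2⟩
  have hne : ∀ x : Inv p u, x.1 ≠ 1 := by
    intro x h
    have h2 := x.2.1
    rw [h, orderOf_one] at h2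
    exact hp.out.one_lt.ne h2
  refine Nat.card_congr (Equiv.ofBijective f ⟨?_, ?_⟩)
  · rintro (- | x) (- | y) hxy
    · rfl
    · exact absurd (congrArg Subtype.val hxy).symm (hne y)
    · exact absurd (congrArg Subtype.val hxy) (hne x)
    · have h0 : (f (some x)).1 = (f (some y)).1 := by rw [hxy]
      have h2 : x.1 = y.1 := h0
      exact congrArg some (Subtype.ext h2)
  · rintro ⟨x, hx1, hx2⟩
    rcases hk x hx1 with h | h
    · exact ⟨none, Subtype.ext h.symm⟩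
    · exact ⟨some ⟨x, h, hx2⟩, rfl⟩

/-- the generators of `⟨v⟩` -/
abbrev Gen (p : ℕ) (v : G) : Type u := {x : G // orderOf x = p ∧ x ∈ zpowers v}

theorem card_gen {v : G} (hv : orderOf v = p) : Nat.card (Gen p v) = p - 1 := by
  classical
  have h1 : Nat.card (Option (Gen p v)) = Nat.card (zpowers v) := by
    let f : Option (Gen p v) → zpowers v := fun o => o.elim 1 fun x => ⟨x.1, x.2.2⟩
    have hne : ∀ x : Gen p v, x.1 ≠ 1 := by
      intro x h
      have h2 := x.2.1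
      rw [h, orderOf_one] at h2
      exact hp.out.one_lt.ne h2
    refine Nat.card_congr (Equiv.ofBijective f ⟨?_, ?_⟩)
    · rintro (- | x) (- | y) hxy
      · rfl
      · exact absurd (congrArg Subtype.val hxy).symm (hne y)
      · exact absurd (congrArg Subtype.val hxy) (hne x)
      · have h0 : (f (some x)).1 = (f (some y)).1 := by rw [hxy]
        have h2 : x.1 = y.1 := h0
        exact congrArg some (Subtype.ext h2)
    · rintro ⟨x, hx⟩
      have h2 : orderOf x ∣ p := by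
        rw [← hv]
        exact orderOf_dvd_of_mem_zpowers hx
      rcases (Nat.dvd_prime hp.out).1 h2 with h3 | h3
      · exact ⟨none, Subtype.ext (orderOf_eq_one_iff.1 h3).symm⟩
      · exact ⟨some ⟨x, h3, hx⟩, rfl⟩
  rw [Finite.card_option, Nat.card_zpowers, hv] at h1
  omega

/-- `|Inv| * |C(u) ∩ N(⟨v⟩)| = |C(u)| * (p - 1)` -/
theorem card_inv_mul (hpG : ¬ p ^ 2 ∣ Nat.card G) {u v : G}
    (hu : u * u = 1) (hv : orderOf v = p) (huv : u * v * u⁻¹ = v⁻¹)
    (hodd : ¬ 2 ∣ Nat.card (centralizer ({v} : Set G))) :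
    Nat.card (Inv p u) * Nat.card (centralizer ({u} : Set G) ⊓ Nm v : Subgroup G) =
      Nat.card (centralizer ({u} : Set G)) * (p - 1) := by
  classical
  -- `C(u)` acts transitively
  have key : ∀ x : Inv p u, ∃ g : G, g ∈ centralizer ({u} : Set G) ∧ g⁻¹ * x.1 * g ∈ zpowers v := by
    intro x
    obtain ⟨g, hg⟩ := exists_conj_zpowers hp.out hpG hv x.2.1
    have hw : (g * u * g⁻¹) * (g * u * g⁻¹) = 1 := by
      calc (g * u * g⁻¹) * (g * u * g⁻¹) = g * (u * u) * g⁻¹ := by group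
        _ = 1 := by rw [hu]; group
    -- `g u g⁻¹` inverts `v`
    have hz : (g * u * g⁻¹) * (g * x.1 * g⁻¹) * (g * u * g⁻¹)⁻¹ = (g * x.1 * g⁻¹)⁻¹ := by
      calc (g * u * g⁻¹) * (g * x.1 * g⁻¹) * (g * u * g⁻¹)⁻¹ = g * (u * x.1 * u⁻¹) * g⁻¹ := by group
        _ = (g * x.1 * g⁻¹)⁻¹ := by rw [x.2.2]; group
    have ho : orderOf (g * x.1 * g⁻¹) = p := by
      have h1 := orderOf_injective (MulAut.conj g).toMonoidHom (MulAut.conj g).injective x.1
      rw [x.2.1] at h1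
      exact h1
    have hgen : v ∈ zpowers (g * x.1 * g⁻¹) := by
      have h1 : zpowers (g * x.1 * g⁻¹) = zpowers v := by
        apply eq_of_le_of_card_ge
        · rw [zpowers_le]; exact hg
        · rw [Nat.card_zpowers, Nat.card_zpowers, ho, hv]
      rw [h1]; exact mem_zpowers v
    obtain ⟨n, hn⟩ := mem_zpowers_iff.1 hgen
    have hwv : (g * u * g⁻¹) * v * (g * u * g⁻¹)⁻¹ = v⁻¹ := by
      rw [← hn, ← conj_zpow, hz, inv_zpow]
    obtain ⟨c, hc, hc2⟩ := exists_conj_inv hu hw huv hwv hodd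
    refine ⟨(c * g)⁻¹, ?_, ?_⟩
    · apply inv_mem
      rw [mem_cent]
      calc c * g * u = (c * (g * u * g⁻¹) * c⁻¹) * (c * g) := by group
        _ = u * (c * g) := by rw [hc2]
    · obtain ⟨m, hm⟩ := mem_zpowers_iff.1 hg
      have h1 : Commute c (g * x.1 * g⁻¹) := by
        rw [← hm]
        exact (show Commute c v from mem_cent.1 hc).zpow_right m
      have h2 : (c * g)⁻¹⁻¹ * x.1 * (c * g)⁻¹ = g * x.1 * g⁻¹ := by
        calc (c * g)⁻¹⁻¹ * x.1 * (c * g)⁻¹ = c * (g * x.1 * g⁻¹) * c⁻¹ := by group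
          _ = g * x.1 * g⁻¹ := by rw [h1.eq, mul_inv_cancel_right]
      rw [h2]
      exact hg
  choose γ hγ1 hγ2 using key
  have hord : ∀ (g : G) (x : G), orderOf (g⁻¹ * x * g) = orderOf x := by
    intro g x
    have h1 := orderOf_injective (MulAut.conj g⁻¹).toMonoidHom (MulAut.conj g⁻¹).injective x
    simpa using h1
  have hord' : ∀ (g : G) (x : G), orderOf (g * x * g⁻¹) = orderOf x := by
    intro g x
    exact orderOf_injective (MulAut.conj g).toMonoidHom (MulAut.conj g).injective x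
  -- elements of `N(⟨v⟩)` and generators
  have hN : ∀ {r w : G}, w ∈ zpowers v → r ∈ Nm v → r⁻¹ * w * r ∈ zpowers v := by
    intro r w hw hr
    have h1 := (mem_nm.1 hr (r⁻¹ * w * r)).2
    apply h1
    have h2 : r * (r⁻¹ * w * r) * r⁻¹ = w := by group
    rw [h2]; exact hw
  have hN' : ∀ {r w : G}, orderOf w = p → w ∈ zpowers v → r * w * r⁻¹ ∈ zpowers v → r ∈ Nm v := by
    intro r w ho hw hr
    have h1 : zpowers w = zpowers v := by
      apply eq_of_le_of_card_ge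
      · rw [zpowers_le]; exact hw
      · rw [Nat.card_zpowers, Nat.card_zpowers, ho, hv]
    have hvw : v ∈ zpowers w := by rw [h1]; exact mem_zpowers v
    apply mem_nm_of
    obtain ⟨n, hn⟩ := mem_zpowers_iff.1 hvw
    have h2 : r * v * r⁻¹ = (r * w * r⁻¹) ^ n := by rw [conj_zpow, hn]
    rw [h2]
    exact zpow_mem hr n
  have hInv : ∀ {g w : G}, g ∈ centralizer ({u} : Set G) → w ∈ zpowers v → u * (g * w * g⁻¹) * u⁻¹ = (g * w * g⁻¹)⁻¹ := by
    intro g w hg hw
    have h1 := mem_cent.1 hg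
    obtain ⟨n, hn⟩ := mem_zpowers_iff.1 hw
    have h2 : u * w * u⁻¹ = w⁻¹ := by rw [← hn, ← conj_zpow, huv, inv_zpow]
    have h3 : g⁻¹ * u⁻¹ = u⁻¹ * g⁻¹ := by rw [← mul_inv_rev, ← mul_inv_rev, h1]
    calc u * (g * w * g⁻¹) * u⁻¹ = (u * g) * w * (g⁻¹ * u⁻¹) := by group
      _ = (g * u) * w * (u⁻¹ * g⁻¹) := by rw [h1, h3]
      _ = g * (u * w * u⁻¹) * g⁻¹ := by group
      _ = (g * w * g⁻¹)⁻¹ := by rw [h2]; group
  rw [← card_gen hv, ← Nat.card_prod, ← Nat.card_prod]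
  let f : Inv p u × (centralizer ({u} : Set G) ⊓ Nm v : Subgroup G) → centralizer ({u} : Set G) × Gen p v := fun x =>
    (⟨γ x.1 * x.2, mul_mem (hγ1 _) (Subgroup.mem_inf.1 x.2.2).1⟩,
      ⟨(γ x.1 * x.2)⁻¹ * x.1 * (γ x.1 * x.2), by rw [hord, x.1.2.1], by
        have h1 : (γ x.1 * (x.2 : G))⁻¹ * x.1 * (γ x.1 * x.2) = (x.2 : G)⁻¹ * ((γ x.1)⁻¹ * x.1 * γ x.1) * x.2 := by group
        rw [h1]
        exact hN (hγ2 x.1) (Subgroup.mem_inf.1 x.2.2).2⟩)
  refine Nat.card_congr (Equiv.ofBijective f ⟨?_, ?_⟩)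
  · rintro ⟨x, r⟩ ⟨y, s⟩ hxy
    have h1 : γ x * (r : G) = γ y * s := congrArg (fun t => (t.1 : G)) hxy
    have h2 : (γ x * (r : G))⁻¹ * x.1 * (γ x * r) = (γ y * (s : G))⁻¹ * y.1 * (γ y * s) :=
      congrArg (fun t => (t.2.1 : G)) hxy
    have h3 : x = y := by
      apply Subtype.ext
      calc x.1 = (γ x * (r : G)) * ((γ x * (r : G))⁻¹ * x.1 * (γ x * r)) * (γ x * (r : G))⁻¹ := by group
        _ = (γ y * (s : G)) * ((γ y * (s : G))⁻¹ * y.1 * (γ y * s)) * (γ y * (s : G))⁻¹ := by rw [h2, h1]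
        _ = y.1 := by group
    subst h3
    have h4 : (r : G) = s := mul_left_cancel h1
    rw [Subtype.ext h4]
  · rintro ⟨g, w⟩
    let x : Inv p u := ⟨(g : G) * w.1 * (g : G)⁻¹, by rw [hord', w.2.1], hInv g.2 w.2.2⟩
    have hr : (γ x)⁻¹ * (g : G) ∈ (centralizer ({u} : Set G) ⊓ Nm v : Subgroup G) := by
      refine Subgroup.mem_inf.2 ⟨mul_mem (inv_mem (hγ1 x)) g.2, hN' w.2.1 w.2.2 ?_⟩
      have h1 : (γ x)⁻¹ * (g : G) * w.1 * ((γ x)⁻¹ * (g : G))⁻¹ = (γ x)⁻¹ * x.1 * γ x := by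
        show _ = (γ x)⁻¹ * ((g : G) * w.1 * (g : G)⁻¹) * γ x
        group
      rw [h1]
      exact hγ2 x
    refine ⟨⟨x, ⟨_, hr⟩⟩, ?_⟩
    have h2 : γ x * ((γ x)⁻¹ * (g : G)) = g := by group
    apply Prod.ext
    · apply Subtype.ext
      exact h2
    · apply Subtype.ext
      show (γ x * ((γ x)⁻¹ * (g : G)))⁻¹ * ((g : G) * w.1 * (g : G)⁻¹) * (γ x * ((γ x)⁻¹ * (g : G))) = w.1
      rw [h2]; group

/-- **Real elements of order `p`.** -/
theorem IM_of_real (hp2 : p ≠ 2) (hdG : p ∣ Nat.card G) (hpG : ¬ p ^ 2 ∣ Nat.card G) {u v : G} (hu1 : u ≠ 1)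
    (hu : u * u = 1) (hv : orderOf v = p) (huv : u * v * u⁻¹ = v⁻¹)
    (hodd : ¬ 2 ∣ Nat.card (centralizer ({v} : Set G)))
    (h : ¬ Nat.card (centralizer ({u} : Set G) ⊓ Nm v : Subgroup G) ≡ Nat.card (centralizer ({u} : Set G)) [MOD p]) :
    IM p G := by
  refine IM_of_inverted hp2 hu (dvd_index hdG hpG hu1 hu hv hodd) fun hd => h ?_
  rw [card_inverted hpG u] at hd
  have h1 := card_inv_mul hpG hu hv huv hodd
  set a := Nat.card (Inv p u)
  set r := Nat.card (centralizer ({u} : Set G) ⊓ Nm v : Subgroup G)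
  set c := Nat.card (centralizer ({u} : Set G))
  have h2 : p ∣ (1 + a) * r := hd.mul_right r
  have hp1 : p = (p - 1) + 1 := (Nat.sub_add_cancel hp.out.one_lt.le).symm
  have h3 : (1 + a) * r + c = r + c * p := by
    calc (1 + a) * r + c = r + a * r + c := by ring
      _ = r + c * (p - 1) + c := by rw [h1]
      _ = r + c * ((p - 1) + 1) := by ring
      _ = r + c * p := by rw [← hp1]
  have h4 : r + c * p ≡ r [MOD p] := by
    have h6 : c * p ≡ 0 [MOD p] := (Nat.modEq_zero_iff_dvd.2 (dvd_mul_left p c))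
    exact Nat.ModEq.add_left r h6
  have h5 : (1 + a) * r + c ≡ c [MOD p] := by
    have h6 : (1 + a) * r ≡ 0 [MOD p] := (Nat.modEq_zero_iff_dvd.2 h2)
    have h7 := Nat.ModEq.add_right c h6
    rwa [zero_add] at h7
  rw [h3] at h5
  exact h4.symm.trans h5

/-- **No inverted elements of order `p`.** -/
theorem IM_of_not_real (hp2 : p ≠ 2) (hpG : ¬ p ^ 2 ∣ Nat.card G) {u : G}
    (hu : u * u = 1) (hd : p ∣ (centralizer ({u} : Set G)).index)
    (h : ∀ v : G, orderOf v = p → u * v * u⁻¹ ≠ v⁻¹) : IM p G := by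
  refine IM_of_inverted hp2 hu hd ?_
  rw [card_inverted hpG u]
  have : IsEmpty (Inv p u) := ⟨fun x => h x.1 x.2.1 x.2.2⟩
  rw [Nat.card_of_isEmpty, add_zero, Nat.dvd_one]
  exact hp.out.one_lt.ne'

end

end Cfsg.Agent.H314.IMInv
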