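import Cfsg.Agent.H314.OrbDeg

/-!
# Intersection numbers from a double coset enumeration (helper314)

`G` finite, `H` a subgroup with double coset representatives `w i`, `|H ∩ w_i H w_i⁻¹| = n i`, `d i = |H| / n i`
pairwise distinct.  `cnt i j` : number of the points `y` of `G / H` with `(H, y)` in the orbital `s` and `(w_i H, y)` in
the orbital `j`.  `cnt_eq` computes `cnt i j` from an enumeration of the orbits of `H ∩ w_i H w_i⁻¹` on the suborbit `s`
with lower bounds for the stabilisers.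
-/

set_option autoImplicit false
set_option linter.unusedSectionVars false

namespace Cfsg.Agent.H314.OrbCount

open Cfsg Cfsg.Agent.H593.IMFrame Cfsg.Agent.H314.OrbDeg MulAction

universe u

variable {G : Type u} [Group G] (H : Subgroup G) {r : ℕ} (w : Fin r → G)

/-- the stabiliser of the two points `H`, `w H` -/
abbrev St (g : G) : Subgroup G := H ⊓ H.map (MulAut.conj g).toMonoidHom

theorem mem_St {g x : G} : x ∈ St H g ↔ x ∈ H ∧ g⁻¹ * x * g ∈ H := by
  rw [Subgroup.mem_inf]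
  refine and_congr_right fun _ => ?_
  constructor
  · rintro ⟨y, hy, rfl⟩
    have : g⁻¹ * ((MulAut.conj g).toMonoidHom y) * g = y := by
      show g⁻¹ * (g * y * g⁻¹) * g = y
      group
    rw [this]; exact hy
  · intro h
    refine ⟨_, h, ?_⟩
    show g * (g⁻¹ * x * g) * g⁻¹ = x
    group

/-- the relation of two cosets -/
theorem rel_iff (g x y : G) :
    Rel G (QuotientGroup.mk 1 : G ⧸ H) (QuotientGroup.mk g) (QuotientGroup.mk x) (QuotientGroup.mk y) ↔
      ∃ h₁ ∈ H, ∃ h₂ ∈ H, x⁻¹ * y = h₁ * g * h₂ := by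
  constructor
  · rintro ⟨t, h1, h2⟩
    have h3 : ((t * 1 : G) : G ⧸ H) = (x : G ⧸ H) := h1
    have h4 : ((t * g : G) : G ⧸ H) = (y : G ⧸ H) := h2
    rw [QuotientGroup.eq] at h3 h4
    refine ⟨(x⁻¹ * t), ?_, (t * g)⁻¹ * y, h4, by group⟩
    have h5 := H.inv_mem h3
    have h6 : ((t * 1)⁻¹ * x)⁻¹ = x⁻¹ * t := by group
    rwa [h6] at h5
  · rintro ⟨h₁, hh1, h₂, hh2, h⟩
    refine ⟨x * h₁, ?_, ?_⟩
    · show ((x * h₁ * 1 : G) : G ⧸ H) = (x : G ⧸ H)
      rw [QuotientGroup.eq]
      have : (x * h₁ * 1)⁻¹ * x = h₁⁻¹ := by group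
      rw [this]; exact H.inv_mem hh1
    · show ((x * h₁ * g : G) : G ⧸ H) = (y : G ⧸ H)
      rw [QuotientGroup.eq]
      have : (x * h₁ * g)⁻¹ * y = h₂ := by
        have e : (x * h₁ * g)⁻¹ * y = (h₁ * g)⁻¹ * (x⁻¹ * y) := by group
        rw [e, h]; group
      rw [this]; exact hh2

variable [Finite G]

omit [Finite G] in
theorem smul_mk (g x : G) : g • (QuotientGroup.mk x : G ⧸ H) = QuotientGroup.mk (g * x) := rfl

/-- orbit-stabiliser for a subgroup `S` of `G` -/
theorem ncard_orbit_mul (S T : Subgroup G) (x : G ⧸ H) (hT : T ≤ S) (hx : ∀ g ∈ T, g • x = x) :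
    (orbit S x).ncard * Nat.card T ≤ Nat.card S := by
  rw [← index_stabilizer, ← (stabilizer S x).card_mul_index, mul_comm]
  refine Nat.mul_le_mul_right _ ?_
  refine Nat.card_le_card_of_injective (fun t : T => (⟨⟨t, hT t.2⟩, hx t t.2⟩ : stabilizer S x)) ?_
  intro t t' h
  exact Subtype.ext (congrArg (fun z : stabilizer S x => ((z : S) : G)) h)

theorem ncard_orbit_H (g : G) : (orbit H (QuotientGroup.mk g : G ⧸ H)).ncard * Nat.card (St H g) = Nat.card H := by
  rw [← index_stabilizer, ← (stabilizer H (QuotientGroup.mk g : G ⧸ H)).card_mul_index, mul_comm]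
  congr 1
  refine Nat.card_congr ⟨fun t => ⟨⟨t.1, ((mem_St H).1 t.2).1⟩, ?_⟩, fun t => ⟨(t : H), ?_⟩, fun t => rfl, fun t => rfl⟩
  · show (QuotientGroup.mk (t.1 * g) : G ⧸ H) = QuotientGroup.mk g
    rw [QuotientGroup.eq]
    have h1 := H.inv_mem ((mem_St H).1 t.2).2
    have h2 : (g⁻¹ * t.1 * g)⁻¹ = (t.1 * g)⁻¹ * g := by group
    rwa [h2] at h1
  · rw [mem_St]
    refine ⟨t.1.2, ?_⟩
    have h1 : (QuotientGroup.mk (((t : H) : G) * g) : G ⧸ H) = QuotientGroup.mk g := t.2
    rw [QuotientGroup.eq] at h1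
    have h2 := H.inv_mem h1
    have h3 : ((((t : H) : G) * g)⁻¹ * g)⁻¹ = g⁻¹ * ((t : H) : G) * g := by group
    rwa [h3] at h2

variable {H w} {d : Fin r → ℕ}

/-- the permutation representation -/
theorem sub (n : Fin r → ℕ) (hn : ∀ i, Nat.card (St H (w i)) = n i) (hd : ∀ i, d i * n i = Nat.card H)
    (hinj : Function.Injective d) (hsum : ∑ i, d i = H.index) :
    Sub G (G ⧸ H) (QuotientGroup.mk 1 : G ⧸ H) (fun i => QuotientGroup.mk (w i)) d := by
  refine Sub.of_quotient H _ (fun i => ?_) hinj hsum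
  have h1 := ncard_orbit_H H (w i)
  rw [hn i, ← hd i] at h1
  have h2 : 0 < n i := by rw [← hn i]; exact Nat.card_pos
  exact Nat.eq_of_mul_eq_mul_right h2 h1

/-- the intersection numbers -/
noncomputable def cnt (H : Subgroup G) (w : Fin r → G) (s i j : Fin r) : ℕ :=
  {y : G ⧸ H | Rel G (QuotientGroup.mk 1 : G ⧸ H) (QuotientGroup.mk (w s)) (QuotientGroup.mk 1) y ∧
    Rel G (QuotientGroup.mk 1 : G ⧸ H) (QuotientGroup.mk (w j)) (QuotientGroup.mk (w i)) y}.ncard

section

variable (h : Sub G (G ⧸ H) (QuotientGroup.mk 1 : G ⧸ H) (fun i => QuotientGroup.mk (w i)) d)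

include h

theorem cnt_symm (s i j : Fin r) :
    {y : G ⧸ H | Rel G (QuotientGroup.mk 1 : G ⧸ H) (QuotientGroup.mk (w s)) (QuotientGroup.mk (w i)) y ∧
      Rel G (QuotientGroup.mk 1 : G ⧸ H) (QuotientGroup.mk (w j)) (QuotientGroup.mk 1) y}.ncard = cnt H w s i j := by
  have h1 : Rel G (QuotientGroup.mk 1 : G ⧸ H) (QuotientGroup.mk (w i)) (QuotientGroup.mk 1)
      (QuotientGroup.mk (w i)) := ⟨1, one_smul _ _, one_smul _ _⟩
  obtain ⟨g, hg1, hg2⟩ := h1.exists_smul (h.symm h1)
  unfold cnt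
  rw [← Set.ncard_image_of_injective _ (MulAction.injective (β := G ⧸ H) g)]
  congr 1
  ext y
  constructor
  · rintro ⟨z, ⟨h2, h3⟩, rfl⟩
    refine ⟨?_, ?_⟩
    · have h4 := h2.smul g
      rwa [hg2] at h4
    · have h4 := h3.smul g
      rwa [hg1] at h4
  · rintro ⟨h2, h3⟩
    have e1 : g⁻¹ • (QuotientGroup.mk 1 : G ⧸ H) = QuotientGroup.mk (w i) := by
      rw [inv_smul_eq_iff, hg2]
    have e2 : g⁻¹ • (QuotientGroup.mk (w i) : G ⧸ H) = QuotientGroup.mk 1 := by
      rw [inv_smul_eq_iff, hg1]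
    refine ⟨g⁻¹ • y, ⟨?_, ?_⟩, smul_inv_smul g y⟩
    · have h4 := h2.smul g⁻¹
      rwa [e1] at h4
    · have h4 := h3.smul g⁻¹
      rwa [e2] at h4

theorem sum_cnt (s i : Fin r) : ∑ j, cnt H w s i j = d s := by
  classical
  have := Fintype.ofFinite (G ⧸ H)
  rw [← h.ncard_rel s (QuotientGroup.mk 1)]
  choose o ho using fun y : G ⧸ H => h.exists_rel (QuotientGroup.mk (w i)) y
  unfold cnt
  simp only [Set.ncard_eq_toFinset_card']
  rw [Finset.card_eq_sum_card_fiberwise (f := o) (t := Finset.univ) (fun _ _ => Finset.mem_coe.2 (Finset.mem_univ _))]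
  refine Finset.sum_congr rfl fun j _ => ?_
  congr 1
  ext y
  simp only [Finset.mem_filter, Set.mem_toFinset, Set.mem_ofPred_eq]
  refine and_congr_right fun _ => ⟨fun h2 => h.rel_unique (ho y) h2, fun h2 => h2 ▸ ho y⟩

/-- detailed balance -/
theorem mul_cnt (s i j : Fin r) : d i * cnt H w s i j = d j * cnt H w s j i := by
  classical
  have := Fintype.ofFinite (G ⧸ H)
  have hX := h.card_pos
  -- the number of triangles
  have key : ∀ i j : Fin r, (Finset.univ.filter fun z : (G ⧸ H) × (G ⧸ H) =>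
      Rel G (QuotientGroup.mk 1 : G ⧸ H) (QuotientGroup.mk (w i)) (QuotientGroup.mk 1) z.1 ∧
      Rel G (QuotientGroup.mk 1 : G ⧸ H) (QuotientGroup.mk (w j)) (QuotientGroup.mk 1) z.2 ∧
      Rel G (QuotientGroup.mk 1 : G ⧸ H) (QuotientGroup.mk (w s)) z.1 z.2).card = d i * cnt H w s i j := by
    intro i j
    rw [Finset.card_eq_sum_card_fiberwise (f := Prod.fst) (t := Finset.univ.filter fun x : G ⧸ H =>
      Rel G (QuotientGroup.mk 1 : G ⧸ H) (QuotientGroup.mk (w i)) (QuotientGroup.mk 1) x)]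
    · have h1 : ∀ x ∈ Finset.univ.filter (fun x : G ⧸ H =>
          Rel G (QuotientGroup.mk 1 : G ⧸ H) (QuotientGroup.mk (w i)) (QuotientGroup.mk 1) x),
          ((Finset.univ.filter fun z : (G ⧸ H) × (G ⧸ H) =>
            Rel G (QuotientGroup.mk 1 : G ⧸ H) (QuotientGroup.mk (w i)) (QuotientGroup.mk 1) z.1 ∧
            Rel G (QuotientGroup.mk 1 : G ⧸ H) (QuotientGroup.mk (w j)) (QuotientGroup.mk 1) z.2 ∧
            Rel G (QuotientGroup.mk 1 : G ⧸ H) (QuotientGroup.mk (w s)) z.1 z.2).filter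
              (fun z => z.1 = x)).card = cnt H w s i j := by
        intro x hx
        have hx' := (Finset.mem_filter.1 hx).2
        obtain ⟨g, hg1, hg2⟩ := hx'
        rw [← cnt_symm h s i j, Set.ncard_eq_toFinset_card']
        symm
        refine Finset.card_bij (fun y _ => (x, g • y)) ?_ ?_ ?_
        · intro y hy
          rw [Set.mem_toFinset] at hy
          have h2 := hy.1.smul g
          have h3 := hy.2.smul g
          rw [hg2] at h2
          rw [hg1] at h3
          simp only [Finset.mem_filter, Finset.mem_univ, true_and, and_true]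
          exact ⟨⟨g, hg1, hg2⟩, h3, h2⟩
        · intro y _ y' _ hyy
          exact MulAction.injective g (congrArg Prod.snd hyy)
        · rintro ⟨x', y⟩ hz
          simp only [Finset.mem_filter, Finset.mem_univ, true_and] at hz
          obtain ⟨⟨-, h3, h2⟩, rfl⟩ := hz
          refine ⟨g⁻¹ • y, ?_, by rw [smul_inv_smul]⟩
          rw [Set.mem_toFinset]
          have e1 : g⁻¹ • (QuotientGroup.mk 1 : G ⧸ H) = QuotientGroup.mk 1 := by
            rw [inv_smul_eq_iff, hg1]
          have e2 : g⁻¹ • x' = QuotientGroup.mk (w i) := by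
            rw [inv_smul_eq_iff, hg2]
          have h4 := h2.smul g⁻¹
          have h5 := h3.smul g⁻¹
          rw [e2] at h4
          rw [e1] at h5
          exact ⟨h4, h5⟩
      rw [Finset.sum_congr rfl h1, Finset.sum_const, smul_eq_mul]
      congr 1
      rw [← h.ncard_rel i (QuotientGroup.mk 1), Set.ncard_eq_toFinset_card']
      congr 1
      ext x
      simp
    · intro z hz
      have h1 := (Finset.mem_filter.1 (Finset.mem_coe.1 hz)).2.1
      exact Finset.mem_coe.2 (Finset.mem_filter.2 ⟨Finset.mem_univ _, h1⟩)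
  rw [← key i j, ← key j i]
  refine Finset.card_bij (fun z _ => (z.2, z.1)) ?_ ?_ ?_
  · rintro ⟨x, y⟩ hz
    simp only [Finset.mem_filter, Finset.mem_univ, true_and] at hz ⊢
    exact ⟨hz.2.1, hz.1, h.symm hz.2.2⟩
  · rintro ⟨x, y⟩ _ ⟨x', y'⟩ _ hh
    simp only [Prod.mk.injEq] at hh ⊢
    exact ⟨hh.2, hh.1⟩
  · rintro ⟨x, y⟩ hz
    simp only [Finset.mem_filter, Finset.mem_univ, true_and] at hz
    exact ⟨(y, x), by simp only [Finset.mem_filter, Finset.mem_univ, true_and]; exact ⟨hz.2.1, hz.1, h.symm hz.2.2⟩, rfl⟩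

theorem cnt_base {i0 : Fin r} (hw0 : w i0 = 1) (s j : Fin r) : cnt H w s i0 j = if j = s then d s else 0 := by
  have hrel : ∀ y : G ⧸ H, Rel G (QuotientGroup.mk 1 : G ⧸ H) (QuotientGroup.mk (w s)) (QuotientGroup.mk 1) y →
      Rel G (QuotientGroup.mk 1 : G ⧸ H) (QuotientGroup.mk (w j)) (QuotientGroup.mk (w i0)) y → j = s := by
    intro y h1 h2
    rw [hw0] at h2
    exact h.rel_unique h2 h1
  split_ifs with hjs
  · subst hjs
    rw [← h.ncard_rel j (QuotientGroup.mk 1)]
    unfold cnt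
    congr 1
    ext y
    rw [hw0]
    exact and_self_iff
  · unfold cnt
    rw [Set.ncard_eq_zero]
    ext y
    simp only [Set.mem_ofPred_eq, Set.mem_empty_iff_false, iff_false]
    rintro ⟨h1, h2⟩
    exact hjs (hrel y h1 h2)

/-- **The intersection numbers from an enumeration of orbits.**  The points `u e * w s * H` are representatives of the
orbits of `H ∩ w_i H w_i⁻¹` on the suborbit `s`, in the relation `t e` to `w_i H`, with stabilisers containing `T e`. -/
theorem cnt_eq (s i : Fin r) {ι : Type*} [Fintype ι] (u : ι → G) (t : ι → Fin r)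
    (ht : ∀ e, ∃ h₁ ∈ H, ∃ h₂ ∈ H, (w i)⁻¹ * (u e * w s) = h₁ * w (t e) * h₂)
    (hcov : ∀ x ∈ H, ∃ e, ∃ σ ∈ St H (w i), (σ * (u e * w s))⁻¹ * (x * w s) ∈ H)
    (T : ι → Subgroup G) (hT : ∀ e, T e ≤ St H (w i)) (hT' : ∀ e, ∀ g ∈ T e, (u e * w s)⁻¹ * g * (u e * w s) ∈ H)
    (N : ι → ℕ) (hN : ∀ e, Nat.card (St H (w i)) ≤ N e * Nat.card (T e)) (hsum : ∑ e, N e ≤ d s) (j : Fin r) :
    cnt H w s i j = ∑ e, if t e = j then N e else 0 := by
  classical
  have := Fintype.ofFinite (G ⧸ H)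
  -- the bound for one orbit
  have horb : ∀ e, (orbit (St H (w i)) (QuotientGroup.mk (u e * w s) : G ⧸ H)).ncard ≤ N e := by
    intro e
    have h1 := ncard_orbit_mul H (St H (w i)) (T e) (QuotientGroup.mk (u e * w s)) (hT e) (fun g hg => by
      rw [smul_mk, QuotientGroup.eq]
      have h2 := H.inv_mem (hT' e g hg)
      have h3 : ((u e * w s)⁻¹ * g * (u e * w s))⁻¹ = (g * (u e * w s))⁻¹ * (u e * w s) := by group
      rwa [h3] at h2)
    exact Nat.le_of_mul_le_mul_right (h1.trans (hN e)) Nat.card_pos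
  have hle : ∀ j, cnt H w s i j ≤ ∑ e, if t e = j then N e else 0 := by
    intro j
    have hsub : {y : G ⧸ H | Rel G (QuotientGroup.mk 1 : G ⧸ H) (QuotientGroup.mk (w s)) (QuotientGroup.mk 1) y ∧
        Rel G (QuotientGroup.mk 1 : G ⧸ H) (QuotientGroup.mk (w j)) (QuotientGroup.mk (w i)) y} ⊆
        ⋃ e : {e : ι // t e = j}, orbit (St H (w i)) (QuotientGroup.mk (u e.1 * w s) : G ⧸ H) := by
      intro y hy
      obtain ⟨h1, h2⟩ := hy
      induction y using QuotientGroup.induction_on with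
      | H y =>
        rw [rel_iff] at h1
        obtain ⟨h₁, hh1, h₂, hh2, hy⟩ := h1
        have hy' : y = h₁ * w s * h₂ := by rw [← hy]; group
        obtain ⟨e, σ, hσ, hm⟩ := hcov h₁ hh1
        have hye : σ • (QuotientGroup.mk (u e * w s) : G ⧸ H) = QuotientGroup.mk y := by
          rw [smul_mk, QuotientGroup.eq, hy']
          have h3 : (σ * (u e * w s))⁻¹ * (h₁ * w s * h₂) = (σ * (u e * w s))⁻¹ * (h₁ * w s) * h₂ := by group
          rw [h3]
          exact H.mul_mem hm hh2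
        have hte : t e = j := by
          have h3 : Rel G (QuotientGroup.mk 1 : G ⧸ H) (QuotientGroup.mk (w (t e))) (QuotientGroup.mk (w i))
              (QuotientGroup.mk (u e * w s)) := (rel_iff H _ _ _).2 (ht e)
          have h4 := h3.smul σ
          rw [hye] at h4
          have h5 : σ • (QuotientGroup.mk (w i) : G ⧸ H) = QuotientGroup.mk (w i) := by
            rw [smul_mk, QuotientGroup.eq]
            have h6 := H.inv_mem ((mem_St H).1 hσ).2
            have h7 : ((w i)⁻¹ * σ * w i)⁻¹ = (σ * w i)⁻¹ * w i := by group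
            rwa [h7] at h6
          rw [h5] at h4
          exact h.rel_unique h4 h2
        rw [Set.mem_iUnion]
        exact ⟨⟨e, hte⟩, ⟨⟨σ, hσ⟩, hye⟩⟩
    unfold cnt
    refine (Set.ncard_le_ncard hsub (Set.toFinite _)).trans ?_
    have h1 : (⋃ e : {e : ι // t e = j}, orbit (St H (w i)) (QuotientGroup.mk (u e.1 * w s) : G ⧸ H)).ncard ≤
        ∑ e : {e : ι // t e = j}, N e.1 := by
      rw [Set.ncard_eq_toFinset_card']
      have h2 : (⋃ e : {e : ι // t e = j}, orbit (St H (w i)) (QuotientGroup.mk (u e.1 * w s) : G ⧸ H)).toFinset =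
          Finset.univ.biUnion fun e : {e : ι // t e = j} =>
            (orbit (St H (w i)) (QuotientGroup.mk (u e.1 * w s) : G ⧸ H)).toFinset := by
        ext z; simp
      rw [h2]
      refine Finset.card_biUnion_le.trans (Finset.sum_le_sum fun e _ => ?_)
      rw [← Set.ncard_eq_toFinset_card']
      exact horb e.1
    refine h1.trans (le_of_eq ?_)
    rw [← Finset.sum_filter]
    exact (Finset.sum_subtype (Finset.univ.filter fun e => t e = j) (by simp) N).symm
  have htot : ∑ j, (∑ e, if t e = j then N e else 0) = ∑ e, N e := by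
    rw [Finset.sum_comm]
    refine Finset.sum_congr rfl fun e _ => ?_
    rw [Finset.sum_ite_eq]
    simp
  have h1 : ∑ j, cnt H w s i j = ∑ j, (∑ e, if t e = j then N e else 0) := by
    refine le_antisymm (Finset.sum_le_sum fun j _ => hle j) ?_
    rw [htot, sum_cnt h]
    exact hsum
  exact (Finset.sum_eq_sum_iff_of_le fun j _ => hle j).1 h1 j (Finset.mem_univ _)

/-- the other suborbits from the suborbit `s` itself -/
theorem cnt_self (s i j : Fin r) {m : ℕ} (hm : d j * cnt H w s j i = d i * m) (hd : 0 < d i) : cnt H w s i j = m :=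
  Nat.eq_of_mul_eq_mul_left hd ((mul_cnt h s i j).trans hm)

/-- **The degrees.** -/
theorem exists_degrees (s i0 : Fin r) (hw0 : w i0 = 1) (M : Fin r → Fin r → ℕ)
    (hM : ∀ i j, cnt H w s i j = M i j) (θ : Fin r → ℚ) (hθ : Function.Injective θ) (V : Fin r → Fin r → ℚ)
    (hV0 : ∀ l, V l i0 = 1) (hV : ∀ l i, ∑ j, (M i j : ℚ) * V l j = θ l * V l i) :
    ∃ χ : Fin r → IrrCharacter G, Function.Injective χ ∧
      ∀ l, (charDegree (χ l : G → ℂ) : ℚ) * ∑ j, (d j : ℚ) * V l j ^ 2 = H.index := by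
  classical
  have := Fintype.ofFinite G
  have := Fintype.ofFinite (G ⧸ H)
  obtain ⟨χ, h1, -, h3⟩ := exists_degrees_of_eigen h s i0 (by show (QuotientGroup.mk (w i0) : G ⧸ H) = _; rw [hw0]) M
    (fun i j => by rw [← hM i j, ← cnt_symm h s i j]) θ hθ V hV0 hV
  exact ⟨χ, h1, h3⟩

end

end Cfsg.Agent.H314.OrbCount
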