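import Cfsg.Agent.H593.IMFrame

/-!
# Degrees from an intersection matrix (helper314)

`exists_degrees_of_eigen`: `G` transitive on `X` with pairwise distinct subdegrees `k j` (`Sub G X a b k`), `M i j` the
number of points `y` with `(b i, y)` in the orbital `s` and `(a, y)` in the orbital `j`.  If `M` has `r` distinct
eigenvalues with eigenvectors `V l` (normalised at `a`), then the permutation character is the sum of irreducible
characters `χ l` with `χ l (1) * ∑ k j V l j ^ 2 = |X|`.
-/

set_option autoImplicit false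
set_option linter.unusedSectionVars false

namespace Cfsg.Agent.H314.OrbDeg

open Cfsg Cfsg.Agent.Blocks.ConvCentral Cfsg.Agent.H593.IMFrame
open scoped ComplexConjugate
open Cfsg.Agent.Characters.Core (isIrr_isCharacter finite_irr exists_nat_comb
  isCharacter_apply_inv classInner_isNat classInner_def isIrr_isClassFunction
  classInner_irr_self classInner_irr_ne classInner_conj_symm isIrr_iff_classInner_self
  isIrr_apply_one isIrr_apply_one_ne_zero classInner_irr)

universe u

variable {G : Type u} [Group G] [Fintype G] {X : Type u} [MulAction G X] [Fintype X] {r : ℕ}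
  {a : X} {b : Fin r → X} {k : Fin r → ℕ}

theorem exists_degrees_of_eigen (h : Sub G X a b k) (s i0 : Fin r) (hi0 : b i0 = a) (M : Fin r → Fin r → ℕ)
    (hM : ∀ i j, {y | Rel G a (b s) (b i) y ∧ Rel G a (b j) a y}.ncard = M i j)
    (θ : Fin r → ℚ) (hθ : Function.Injective θ) (V : Fin r → Fin r → ℚ) (hV0 : ∀ l, V l i0 = 1)
    (hV : ∀ l i, ∑ j, (M i j : ℚ) * V l j = θ l * V l i) :
    ∃ χ : Fin r → IrrCharacter G, Function.Injective χ ∧ (∀ g, perm G X g = ∑ i, (χ i : G → ℂ) g) ∧
      ∀ l, (charDegree (χ l : G → ℂ) : ℚ) * ∑ j, (k j : ℚ) * V l j ^ 2 = Nat.card X := by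
  classical
  have hfin := finite_irr (G := G)
  have := Fintype.ofFinite (IrrCharacter G)
  obtain ⟨m, hm, hm1, hmr⟩ := exists_mult h
  have hinner : ∀ χ : IrrCharacter G, classInner (perm G X) (χ : G → ℂ) = m χ := by
    intro χ
    rw [hm]
    exact Cfsg.Agent.Characters.Core.classInner_sum_nsmul_irr m χ
  set S : Finset (IrrCharacter G) := Finset.univ.filter (fun χ => m χ = 1) with hS
  have hcard : S.card = r := by
    rw [← hmr, Finset.card_filter]
    refine Finset.sum_congr rfl fun χ _ => ?_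
    have := hm1 χ
    interval_cases (m χ) <;> simp
  let e : Fin r ≃ S := (S.equivFinOfCardEq hcard).symm
  let χ : Fin r → IrrCharacter G := fun i => (e i : IrrCharacter G)
  have hχinj : Function.Injective χ := fun i j hij => e.injective (Subtype.ext hij)
  have hχm : ∀ i, m (χ i) = 1 := fun i => (Finset.mem_filter.1 (e i).2).2
  have hperm : ∀ g, perm G X g = ∑ i, (χ i : G → ℂ) g := by
    intro g
    have h1 : perm G X g = ∑ ψ : IrrCharacter G, (m ψ : ℂ) * (ψ : G → ℂ) g := by
      rw [hm, Finset.sum_apply]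
      exact Finset.sum_congr rfl fun ψ _ => by rw [Pi.smul_apply, nsmul_eq_mul]
    have h2 : ∑ i, (χ i : G → ℂ) g = ∑ ψ ∈ S, (ψ : G → ℂ) g := by
      rw [← Finset.sum_coe_sort S]
      exact Fintype.sum_equiv e _ _ fun i => rfl
    rw [h1, h2, hS, Finset.sum_filter]
    refine Finset.sum_congr rfl fun ψ _ => ?_
    have := hm1 ψ
    rcases Nat.le_one_iff_eq_zero_or_eq_one.1 this with h0 | h0
    · rw [h0]; simp
    · rw [h0]; simp
  -- the matrix of the kernels
  let Q : Matrix (Fin r) (Fin r) ℂ := fun s i => E (χ s : G → ℂ) a (b i)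
  let N : Fin r → ℕ := fun i => Nat.card X * k i
  have hgram : Q * Matrix.diagonal (fun i => (N i : ℂ)) * Q.conjTranspose =
      Matrix.diagonal (fun s => (charDegree (χ s : G → ℂ) : ℂ)) := by
    ext s t
    rw [Matrix.mul_apply]
    have h1 : ∀ i, (Q * Matrix.diagonal (fun i => (N i : ℂ))) s i * Q.conjTranspose i t =
        (N i : ℂ) * (E (χ s : G → ℂ) a (b i) * conj (E (χ t : G → ℂ) a (b i))) := by
      intro i
      rw [Matrix.mul_diagonal, Matrix.conjTranspose_apply]
      show E (χ s : G → ℂ) a (b i) * (N i : ℂ) * conj (E (χ t : G → ℂ) a (b i)) = _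
      ring
    rw [Finset.sum_congr rfl fun i _ => h1 i]
    have h2 := h.sum_invariant (fun x y => E (χ s : G → ℂ) x y * conj (E (χ t : G → ℂ) x y))
      (fun g x y => by
        rw [E_smul (isIrr_isClassFunction (χ s).2), E_smul (isIrr_isClassFunction (χ t).2)])
    rw [← h2, E_gram]
    by_cases hst : s = t
    · subst hst
      rw [if_pos rfl, Matrix.diagonal_apply_eq, hinner, hχm, Nat.cast_one, mul_one,
        charDegree_eq (χ s).2]
    · rw [if_neg (fun hh => hst (hχinj hh)), Matrix.diagonal_apply_ne _ hst]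
  have hdeg0 : ∀ s, (charDegree (χ s : G → ℂ) : ℂ) ≠ 0 := fun s => by
    rw [charDegree_eq (χ s).2]
    exact isIrr_apply_one_ne_zero (χ s).2
  have hdet : Q.det * (∏ i, (N i : ℂ)) * conj Q.det = ∏ s, (charDegree (χ s : G → ℂ) : ℂ) := by
    have h1 := congrArg Matrix.det hgram
    rw [Matrix.det_mul, Matrix.det_mul, Matrix.det_diagonal, Matrix.det_diagonal,
      Matrix.det_conjTranspose] at h1
    exact h1
  have hprod0 : (∏ s, (charDegree (χ s : G → ℂ) : ℂ)) ≠ 0 :=
    Finset.prod_ne_zero_iff.2 fun s _ => hdeg0 s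
  have hQ0 : Q.det ≠ 0 := by
    intro h0
    rw [h0, zero_mul, zero_mul] at hdet
    exact hprod0 hdet.symm
  have hQu : IsUnit Q.det := isUnit_iff_ne_zero.2 hQ0
  let P : Matrix (Fin r) (Fin r) ℂ := Q⁻¹
  have hPQ : P * Q = 1 := Matrix.nonsing_inv_mul Q hQu
  have hval : ∀ t j x y, Rel G a (b j) x y → E (χ t : G → ℂ) x y = Q t j := by
    intro t j x y hj
    obtain ⟨g, h1, h2⟩ := hj
    rw [← h1, ← h2, E_smul (isIrr_isClassFunction (χ t).2)]
  -- the kernel of the orbital
  have hA : ∀ i x y, (if Rel G a (b i) x y then (1 : ℂ) else 0) =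
      ∑ s, P i s * E (χ s : G → ℂ) x y := by
    intro i x y
    obtain ⟨j, hj⟩ := h.exists_rel x y
    simp only [hval _ j x y hj]
    have h2 : ∑ s, P i s * Q s j = (1 : Matrix (Fin r) (Fin r) ℂ) i j := by
      rw [← hPQ, Matrix.mul_apply]
    rw [h2, Matrix.one_apply]
    by_cases hij : i = j
    · subst hij
      rw [if_pos hj, if_pos rfl]
    · rw [if_neg hij, if_neg (fun hh => hij (h.rel_unique hh hj))]
  have hAE : ∀ i s x z, ∑ y : X, (if Rel G a (b i) x y then (1 : ℂ) else 0) *
      E (χ s : G → ℂ) y z = P i s * E (χ s : G → ℂ) x z := by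
    intro i s x z
    simp only [hA, Finset.sum_mul]
    rw [Finset.sum_comm, Finset.sum_eq_single s]
    · have h1 := E_mul (χ s) (χ s) x z
      rw [if_pos rfl] at h1
      rw [← h1, Finset.mul_sum]
      exact Finset.sum_congr rfl fun y _ => by ring
    · intro t _ ht
      have h1 := E_mul (χ t) (χ s) x z
      rw [if_neg (fun hh => ht (hχinj hh))] at h1
      have h2 : ∑ y : X, P i t * E (χ t : G → ℂ) x y * E (χ s : G → ℂ) y z =
          P i t * ∑ y : X, E (χ t : G → ℂ) x y * E (χ s : G → ℂ) y z := by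
        rw [Finset.mul_sum]
        exact Finset.sum_congr rfl fun y _ => by ring
      rw [h2, h1, mul_zero]
    · intro hh
      exact absurd (Finset.mem_univ _) hh
  -- the rows of `Q` are eigenvectors of `M`
  have hQM : ∀ t i, ∑ j, (M i j : ℂ) * Q t j = P s t * Q t i := by
    intro t i
    obtain ⟨i', hi'⟩ := h.exists_rel (b i) a
    have hia : Rel G a (b i) a (b i) := ⟨1, one_smul _ _, one_smul _ _⟩
    have h1 : E (χ t : G → ℂ) (b i) a = Q t i := hval t i _ _ (h.symm hia)
    rw [← h1, ← hAE s t (b i) a]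
    choose o ho using fun y : X => h.exists_rel a y
    have h2 : ∀ y, E (χ t : G → ℂ) y a = Q t (o y) := fun y => hval t _ _ _ (h.symm (ho y))
    rw [← Finset.sum_fiberwise Finset.univ o]
    refine Finset.sum_congr rfl fun j _ => ?_
    have h3 : ∀ y ∈ Finset.univ.filter (fun y => o y = j),
        (if Rel G a (b s) (b i) y then (1 : ℂ) else 0) * E (χ t : G → ℂ) y a =
          (if Rel G a (b s) (b i) y then (1 : ℂ) else 0) * Q t j := by
      intro y hy
      rw [h2, (Finset.mem_filter.1 hy).2]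
    rw [Finset.sum_congr rfl h3, ← Finset.sum_mul]
    congr 1
    rw [Finset.sum_boole, ← hM i j, Set.ncard_eq_toFinset_card']
    congr 2
    ext y
    simp only [Finset.mem_filter, Finset.mem_univ, true_and, Set.mem_toFinset, Set.mem_ofPred_eq]
    constructor
    · rintro ⟨h4, h5⟩
      exact ⟨h.rel_unique h5 (ho y) ▸ rfl, h4⟩
    · rintro ⟨h4, h5⟩
      exact ⟨h5, h4 ▸ ho y⟩
  have hQP : Q * P = 1 := Matrix.mul_nonsing_inv Q hQu
  -- coordinates of the eigenvectors
  let c : Fin r → Fin r → ℂ := fun l t => ∑ j, (V l j : ℂ) * P j t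
  have hc : ∀ l j, ∑ t, c l t * Q t j = (V l j : ℂ) := by
    intro l j
    simp only [c, Finset.sum_mul]
    rw [Finset.sum_comm]
    have h1 : ∀ i, ∑ t, (V l i : ℂ) * P i t * Q t j = (V l i : ℂ) * (1 : Matrix (Fin r) (Fin r) ℂ) i j := by
      intro i
      rw [← hPQ, Matrix.mul_apply, Finset.mul_sum]
      exact Finset.sum_congr rfl fun t _ => by ring
    rw [Finset.sum_congr rfl fun i _ => h1 i, Finset.sum_eq_single j]
    · rw [Matrix.one_apply_eq, mul_one]
    · intro i _ hi
      rw [Matrix.one_apply_ne hi, mul_zero]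
    · intro hh
      exact absurd (Finset.mem_univ _) hh
  have hVc : ∀ l i, ∑ j, (M i j : ℂ) * (V l j : ℂ) = (θ l : ℂ) * (V l i : ℂ) := by
    intro l i
    have h1 := hV l i
    exact_mod_cast congrArg (fun q : ℚ => (q : ℂ)) h1
  have hind : ∀ d : Fin r → ℂ, (∀ j, ∑ t, d t * Q t j = 0) → ∀ t, d t = 0 := by
    intro d hd t
    have h1 : ∑ j, (∑ t', d t' * Q t' j) * P j t = d t := by
      simp only [Finset.sum_mul]
      rw [Finset.sum_comm]
      have h2 : ∀ t', ∑ j, d t' * Q t' j * P j t = d t' * (1 : Matrix (Fin r) (Fin r) ℂ) t' t := by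
        intro t'
        rw [← hQP, Matrix.mul_apply, Finset.mul_sum]
        exact Finset.sum_congr rfl fun j _ => by ring
      rw [Finset.sum_congr rfl fun t' _ => h2 t', Finset.sum_eq_single t]
      · rw [Matrix.one_apply_eq, mul_one]
      · intro i _ hi
        rw [Matrix.one_apply_ne hi, mul_zero]
      · intro hh
        exact absurd (Finset.mem_univ _) hh
    rw [← h1]
    exact Finset.sum_eq_zero fun j _ => by rw [hd, zero_mul]
  have hcα : ∀ l t, c l t * (P s t - (θ l : ℂ)) = 0 := by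
    intro l
    refine hind _ fun i => ?_
    have h1 : ∑ t, c l t * (P s t - (θ l : ℂ)) * Q t i =
        ∑ t, c l t * (P s t * Q t i) - (θ l : ℂ) * ∑ t, c l t * Q t i := by
      rw [Finset.mul_sum, ← Finset.sum_sub_distrib]
      exact Finset.sum_congr rfl fun t _ => by ring
    rw [h1, hc, ← hVc, sub_eq_zero]
    simp only [← hQM, ← hc, Finset.mul_sum]
    rw [Finset.sum_comm]
    exact Finset.sum_congr rfl fun j _ => Finset.sum_congr rfl fun t _ => by ring
  have hex : ∀ l, ∃ t, c l t ≠ 0 := by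
    intro l
    by_contra hcon
    push Not at hcon
    have h1 := hc l i0
    rw [hV0, Finset.sum_eq_zero fun t _ => by rw [hcon, zero_mul]] at h1
    norm_num at h1
  choose τ hτ using hex
  have hτθ : ∀ l t, c l t ≠ 0 → P s t = (θ l : ℂ) := by
    intro l t ht
    exact sub_eq_zero.1 ((mul_eq_zero.1 (hcα l t)).resolve_left ht)
  have hτinj : Function.Injective τ := by
    intro l l' hll
    have h1 := hτθ l _ (hτ l)
    have h2 := hτθ l' _ (hτ l')
    rw [← hll, h1] at h2
    exact hθ (by exact_mod_cast h2)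
  have hτsurj := Finite.surjective_of_injective hτinj
  have hc0 : ∀ l t, t ≠ τ l → c l t = 0 := by
    intro l t ht
    by_contra hcon
    obtain ⟨l', rfl⟩ := hτsurj t
    have h1 := hτθ l _ hcon
    have h2 := hτθ l' _ (hτ l')
    rw [h1] at h2
    exact ht (congrArg τ (hθ (by exact_mod_cast h2)).symm)
  have hVQ : ∀ l j, (V l j : ℂ) = c l (τ l) * Q (τ l) j := by
    intro l j
    rw [← hc, Finset.sum_eq_single (τ l)]
    · intro t _ ht
      rw [hc0 l t ht, zero_mul]
    · intro hh
      exact absurd (Finset.mem_univ _) hh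
  have hX0 : (Nat.card X : ℂ) ≠ 0 := by exact_mod_cast h.card_pos.ne'
  -- the value at the diagonal
  have hdiag : ∀ t, (Nat.card X : ℂ) * Q t i0 = (charDegree (χ t : G → ℂ) : ℂ) := by
    intro t
    have h1 := E_trace (X := X) (χ t)
    have h2 : ∀ x : X, E (χ t : G → ℂ) x x = Q t i0 := by
      intro x
      have := h.trans
      obtain ⟨g, hg⟩ := MulAction.exists_smul_eq G a x
      exact hval t i0 x x ⟨g, hg, by rw [hi0]; exact hg⟩
    rw [Finset.sum_congr rfl fun x _ => h2 x, Finset.sum_const, Finset.card_univ, hinner, hχm, Nat.cast_one,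
      mul_one, nsmul_eq_mul] at h1
    rw [Nat.card_eq_fintype_card, h1, charDegree_eq (χ t).2]
  refine ⟨fun l => χ (τ l), fun l l' hll => hτinj (hχinj hll), ?_, ?_⟩
  · intro g
    rw [hperm g]
    exact (Fintype.sum_equiv (Equiv.ofBijective τ ⟨hτinj, hτsurj⟩) _ _ fun l => rfl).symm
  · intro l
    have hd := hdeg0 (τ l)
    set d : ℂ := (charDegree (χ (τ l) : G → ℂ) : ℂ) with hdef
    have h1 : (1 : ℂ) = c l (τ l) * Q (τ l) i0 := by
      rw [← hVQ, hV0]; norm_num
    have h2 : ∀ j, Q (τ l) j = (V l j : ℂ) * (d / Nat.card X) := by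
      intro j
      rw [hVQ l j]
      have h3 : Q (τ l) i0 = d / Nat.card X := by
        rw [eq_div_iff hX0, mul_comm, hdiag]
      rw [← h3]
      calc Q (τ l) j = (c l (τ l) * Q (τ l) i0) * Q (τ l) j := by rw [← h1, one_mul]
        _ = _ := by ring
    have h3 := congrFun (congrFun hgram (τ l)) (τ l)
    rw [Matrix.diagonal_apply_eq, Matrix.mul_apply] at h3
    have h4 : ∀ i, (Q * Matrix.diagonal (fun i => (N i : ℂ))) (τ l) i * Q.conjTranspose i (τ l) =
        ((k i : ℂ) * (V l i : ℂ) ^ 2) * (d ^ 2 / Nat.card X) := by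
      intro i
      rw [Matrix.mul_diagonal, Matrix.conjTranspose_apply]
      have h5 : star (Q (τ l) i) = Q (τ l) i := by
        rw [h2 i, hdef]
        show conj ((V l i : ℂ) * _) = _
        rw [map_mul, map_div₀, Complex.conj_natCast, Complex.conj_natCast]
        congr 1
        have h6 := Complex.conj_ofReal (V l i : ℝ)
        exact_mod_cast h6
      rw [h5, h2 i]
      have h6 : (N i : ℂ) = (Nat.card X : ℂ) * (k i : ℂ) := by
        simp only [N]; push_cast; ring
      rw [h6]
      field_simp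
    rw [Finset.sum_congr rfl fun i _ => h4 i, ← Finset.sum_mul] at h3
    have h5 : d * ∑ i, (k i : ℂ) * (V l i : ℂ) ^ 2 = (Nat.card X : ℂ) := by
      have h6 : (∑ i, (k i : ℂ) * (V l i : ℂ) ^ 2) * d ^ 2 = d * Nat.card X := by
        rw [mul_div_assoc'] at h3
        rw [div_eq_iff hX0] at h3
        exact h3
      have h7 : d * (d * ∑ i, (k i : ℂ) * (V l i : ℂ) ^ 2) = d * Nat.card X := by
        rw [← h6]; ring
      exact mul_left_cancel₀ hd h7
    have h6 : (((charDegree (χ (τ l) : G → ℂ) : ℚ) * ∑ j, (k j : ℚ) * V l j ^ 2 : ℚ) : ℂ) = ((Nat.card X : ℚ) : ℂ) := by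
      push_cast
      exact h5
    exact_mod_cast h6

end Cfsg.Agent.H314.OrbDeg
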