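import Cfsg.Agent.LFourA.AltPsiAut

/-!
# Groups with a normal subgroup `A₅` or `A₆` (helper314)
-/

set_option autoImplicit false

namespace Cfsg.Agent.H314.S6Aut

open Equiv Equiv.Perm Subgroup
open Cfsg.Agent.Lib.AltCarmichael Cfsg.Agent.SporadicRecognition.AltCover Cfsg.Agent.StandardComponent.AltAut
open Cfsg.Agent.LFourA.AltPsiAut

/-- the action on a normal subgroup transported through an isomorphism -/
def act {G X : Type*} [Group G] [Group X] (M : Subgroup G) [M.Normal] (e : M ≃* X) : G →* MulAut X :=
  (MulAut.congr e).toMonoidHom.comp MulAut.conjNormal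

theorem act_apply {G X : Type*} [Group G] [Group X] (M : Subgroup G) [M.Normal] (e : M ≃* X) (g : G) (x : X) :
    (act M e g) x = e ((MulAut.conjNormal g : MulAut M) (e.symm x)) := rfl

theorem act_inj {G X : Type*} [Group G] [Group X] (M : Subgroup G) [M.Normal] (e : M ≃* X)
    (hc : centralizer (M : Set G) = ⊥) : Function.Injective (act M e) := by
  rw [injective_iff_map_eq_one]
  intro g hg
  have h1 : g ∈ centralizer (M : Set G) := by
    rw [mem_centralizer_iff]
    intro m hm
    have h2 := act_apply M e g (e ⟨m, hm⟩)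
    rw [hg, MulAut.one_apply, e.symm_apply_apply] at h2
    have h3 := congrArg Subtype.val (e.injective h2)
    rw [MulAut.conjNormal_apply] at h3
    have h4 : m = g * m * g⁻¹ := h3
    calc m * g = (g * m * g⁻¹) * g := by rw [← h4]
      _ = g * m := by group
  rwa [hc, mem_bot] at h1

theorem three_of_order {x : Perm (Fin 5)} (hx : orderOf x = 3) : x.IsThreeCycle := by
  obtain ⟨j, hj⟩ := cycleType_prime_order (σ := x) (by rw [hx]; exact Nat.prime_three)
  rw [hx] at hj
  have hsum : 3 * (j + 1) ≤ 5 := by
    have h := x.sum_cycleType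
    rw [hj, Multiset.sum_replicate, smul_eq_mul] at h
    have h2 := Finset.card_le_univ x.support
    rw [Fintype.card_fin] at h2
    omega
  have : j = 0 := by omega
  rw [IsThreeCycle, hj, this]
  rfl

/-- a group with a normal `A₅` and trivial centralizer has at most 120 elements -/
theorem card_le_of_five {G : Type*} [Group G] [Finite G] (M : Subgroup G) [M.Normal]
    (hc : centralizer (M : Set G) = ⊥) (e : M ≃* alternatingGroup (Fin 5)) : Nat.card G ≤ 120 := by
  classical
  have key : ∀ g : G, ∃ σ : Perm (Fin 5), ∀ x : alternatingGroup (Fin 5), (act M e g x : Perm (Fin 5)) = σ * x * σ⁻¹ := by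
    intro g
    refine exists_conj_of_three (m := 3) (by norm_num) (act M e g) ?_
    intro i hi
    apply three_of_order
    rw [Subgroup.orderOf_coe, MulEquiv.orderOf_eq, ← Subgroup.orderOf_coe]
    exact (isThreeCycle_cyc hi).orderOf
  choose σ hσ using key
  have hinj : Function.Injective σ := by
    intro g g' hgg
    apply act_inj M e hc
    apply MulEquiv.ext
    intro x
    apply Subtype.ext
    rw [hσ, hσ, hgg]
  have h1 := Nat.card_le_card_of_injective σ hinj
  have h2 : Nat.card (Perm (Fin 5)) = 120 := by
    rw [Nat.card_eq_fintype_card, Fintype.card_perm, Fintype.card_fin]; rfl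
  rwa [h2] at h1

theorem conj_mem_NE (x : A6) : MulAut.conj x ∈ NE := by
  rw [mem_NE]
  intro y hy
  rw [MulAut.conj_apply]
  exact isThreeCycle_conj.2 hy

/-- an automorphism fixing an element of order three -/
theorem mem_NE_of_three {α : MulAut A6} {x : A6} (hx : orderOf x = 3) (h : α x = x) : α ∈ NE := by
  rcases three_or hx with h1 | h1
  · rw [mem_NE_iff]
    rw [← all_of_one α u3_three x h1, h]
    exact h1
  · by_contra hα
    have hα' : α⁻¹ ∉ NE := fun h2 => hα (by have := inv_mem h2; rwa [inv_inv] at this)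
    obtain ⟨g, hg⟩ := exists_conj_33 (type_of_not_mem hα' u3_three) h1
    have h2 : α x = α g * u3 * (α g)⁻¹ := by
      rw [← hg, map_mul, map_mul, map_inv, MulAut.apply_inv_self]
    rw [h2] at h
    have h3 : (x : Perm (Fin 6)).IsThreeCycle := by
      rw [← h]
      exact isThreeCycle_conj.2 u3_three
    rw [IsThreeCycle, h1] at h3
    exact absurd h3 (by decide)

/-- recognition of `S₆` -/
theorem iso_six {G : Type*} [Group G] [Finite G] (M : Subgroup G) [M.Normal]
    (hc : centralizer (M : Set G) = ⊥) (e : M ≃* A6) (hNE : ∀ g, act M e g ∈ NE) (hG : Nat.card G = 720) :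
    Nonempty (G ≃* Perm (Fin 6)) := by
  classical
  have key : ∀ g : G, ∃ σ : Perm (Fin 6), ∀ x : A6, (act M e g x : Perm (Fin 6)) = σ * x * σ⁻¹ := fun g =>
    exists_perm (hNE g)
  choose σ hσ using key
  have hmul : ∀ g g', σ (g * g') = σ g * σ g' := by
    intro g g'
    apply conj_unique (m := 4) (by norm_num)
    intro x
    rw [← hσ, map_mul, MulAut.mul_apply, hσ, hσ]
    group
  let ψ : G →* Perm (Fin 6) := MonoidHom.mk' σ hmul
  have hinj : Function.Injective ψ := by
    intro g g' hgg
    have hgg' : σ g = σ g' := hgg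
    apply act_inj M e hc
    apply MulEquiv.ext
    intro x
    apply Subtype.ext
    rw [hσ, hσ, hgg']
  have hb : Function.Bijective ψ := by
    rw [Nat.bijective_iff_injective_and_card]
    refine ⟨hinj, ?_⟩
    rw [hG, Nat.card_eq_fintype_card, Fintype.card_perm, Fintype.card_fin]; rfl
  exact ⟨MulEquiv.ofBijective ψ hb⟩

end Cfsg.Agent.H314.S6Aut
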