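import Cfsg.Agent.H314.S6Four
import Cfsg.Agent.S0848
import Cfsg.Agent.S0497
import Cfsg.Agent.Lib.ProductSet

/-!
# The case of a simple normal subgroup with dihedral Sylow 2-subgroups of order 8 (helper314)
-/

set_option autoImplicit false
set_option linter.style.haveILetI false

namespace Cfsg.Agent.H314.S6Fus

open Subgroup Cfsg.Agent.H314.S6Model
open scoped commutatorElement

universe u

variable {G : Type u} [Group G]

theorem card_conj_mul [Finite G] (g : G) :
    Nat.card (conjugatesOf g) * Nat.card (Subgroup.centralizer ({g} : Set G)) = Nat.card G := by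
  have e1 : conjugatesOf g = MulAction.orbit (ConjAct G) g := by
    rw [ConjAct.orbit_eq_carrier_conjClasses]
    rfl
  have e2 : Nat.card (Subgroup.centralizer ({g} : Set G)) = Nat.card (MulAction.stabilizer (ConjAct G) g) := by
    rw [ConjAct.stabilizer_eq_centralizer]
    rfl
  rw [e1, e2, ← Nat.card_prod]
  exact Nat.card_congr (MulAction.orbitProdStabilizerEquivGroup (ConjAct G) g)

namespace Simp

variable {φ : Q →* G} (h : Hyp φ) {M : Subgroup G} (S : Simp φ M)
include h S

theorem fac_three [Finite G] : (Nat.card M).factorization 2 = 3 :=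
  (S.factorization h).resolve_left (S.not_four h)

theorem card_D [Finite G] : Nat.card (centralizer ({φ ζ} : Set G) ⊓ M : Subgroup G) = 8 := by
  rw [S.card_inf h, S.fac_three h]; norm_num

theorem perfect [Finite G] : commutator M = ⊤ := by
  haveI := S.simple
  rcases S.simple.eq_bot_or_eq_top_of_normal (commutator M) inferInstance with h1 | h1
  · exfalso
    apply S.nonabelian h
    intro a b
    have h2 : ⁅a, b⁆ ∈ commutator M := Subgroup.commutator_mem_commutator (mem_top a) (mem_top b)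
    rw [h1, mem_bot, commutatorElement_eq_one_iff_mul_comm] at h2
    exact h2
  · exact h1

theorem card_M [Finite G] : Nat.card M = 168 ∨ Nat.card M = 360 := by
  obtain ⟨hz, -, -⟩ := S.V_le h
  have hord : orderOf (⟨φ ζ, hz⟩ : M) = 2 := by
    rw [← Subgroup.orderOf_coe]; exact h.order_z
  obtain ⟨e⟩ := h.dihedral (A := centralizer ({φ ζ} : Set G) ⊓ M) inf_le_left (fun ht => S.t_not (mem_inf.1 ht).2) (S.card_D h)
  have hmap : (centralizer ({(⟨φ ζ, hz⟩ : M)} : Set M)).map M.subtype = centralizer ({φ ζ} : Set G) ⊓ M := by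
    ext x
    constructor
    · rintro ⟨y, hy, rfl⟩
      exact mem_inf.2 ⟨mem_centralizer_singleton_iff.2 (congrArg Subtype.val (mem_centralizer_singleton_iff.1 hy)), y.2⟩
    · intro hx
      refine ⟨⟨x, (mem_inf.1 hx).2⟩, mem_centralizer_singleton_iff.2 (Subtype.ext ?_), rfl⟩
      exact mem_centralizer_singleton_iff.1 (mem_inf.1 hx).1
  exact Cfsg.Agent.S0848.result (G := M) (S.perfect h) _ hord
    ((Subgroup.equivMapOfInjective _ _ M.subtype_injective).trans ((MulEquiv.subgroupCongr hmap).trans e))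

/-- one of `a`, `t a` lies in `M` -/
theorem exists_b [Finite G] : ∃ b : Q, (b = α ∨ b = τ * α) ∧ φ b ∈ M := by
  have htT : φ τ ∈ centralizer ({φ ζ} : Set G) := h.mem_T.2 ⟨τ, by decide, rfl⟩
  have hαT : φ α ∈ centralizer ({φ ζ} : Set G) := h.mem_T.2 ⟨α, by decide, rfl⟩
  by_cases h1 : φ α ∈ M
  · exact ⟨α, Or.inl rfl, h1⟩
  · refine ⟨τ * α, Or.inr rfl, ?_⟩
    set T := centralizer ({φ ζ} : Set G) with hT
    have hidx : (M.subgroupOf T).index = 2 := by
      have h2 := Subgroup.index_mul_card (M.subgroupOf T)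
      have h3 : Nat.card (M.subgroupOf T) = 8 := by
        rw [← card_map_of_injective T.subtype_injective, subgroupOf_map_subtype, inf_comm, hT, S.card_D h]
      rw [h3, h.card_T] at h2
      omega
    have h4 := Subgroup.mul_mem_iff_of_index_two hidx (a := (⟨φ τ, htT⟩ : T)) (b := ⟨φ α, hαT⟩)
    have h5 : (⟨φ τ, htT⟩ : T) * ⟨φ α, hαT⟩ ∈ M.subgroupOf T := by
      rw [h4, mem_subgroupOf, mem_subgroupOf]
      exact ⟨fun hx => absurd hx S.t_not, fun hx => absurd hx h1⟩
    rw [map_mul]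
    exact h5

/-- `|G| = 2 |M|` -/
theorem card_G_eq [Finite G] : Nat.card G = 2 * Nat.card M := by
  have : Fact (Nat.Prime 2) := ⟨Nat.prime_two⟩
  haveI := S.normal
  set T := centralizer ({φ ζ} : Set G) with hT
  set D : Subgroup M := T.subgroupOf M with hD
  have hDc : Nat.card D = 2 ^ (Nat.card M).factorization 2 := by
    rw [← S.card_inf h, ← card_map_of_injective M.subtype_injective, hD, subgroupOf_map_subtype]
  let P : Sylow 2 M := Sylow.ofCard D hDc
  have hF := Sylow.normalizer_sup_eq_top (N := M) P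
  have hPD : (P : Subgroup M).map M.subtype = T ⊓ M := by
    show D.map M.subtype = T ⊓ M
    rw [hD, subgroupOf_map_subtype]
  -- the normalizer of `T ∩ M` is contained in `T`
  have hN : normalizer ((T ⊓ M : Subgroup G) : Set G) ≤ T := by
    intro n hn
    obtain ⟨b, hb, hbM⟩ := S.exists_b h
    obtain ⟨-, hz1, -⟩ := S.V_le h
    have hbT : φ b ∈ T := h.mem_T.2 ⟨b, by rcases hb with rfl | rfl <;> decide, rfl⟩
    have hζ₁T : φ ζ₁ ∈ T := h.mem_T.2 ⟨ζ₁, by decide, rfl⟩
    have hbc : b * ζ₁ = ζ₁ * b * ζ := by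
      rcases hb with rfl | rfl
      · exact T_comm'
      · exact τα_noncomm
    have e1 := (mem_normalizer_iff.1 hn (φ b)).1 (mem_inf.2 ⟨hbT, hbM⟩)
    have e2 := (mem_normalizer_iff.1 hn (φ ζ₁)).1 (mem_inf.2 ⟨hζ₁T, hz1⟩)
    obtain ⟨x, hx, hx'⟩ := h.mem_T.1 (mem_inf.1 e1).1
    obtain ⟨y, hy, hy'⟩ := h.mem_T.1 (mem_inf.1 e2).1
    have h3 : φ b * φ ζ₁ = φ ζ₁ * φ b * φ ζ := by
      rw [← map_mul, ← map_mul, ← map_mul, hbc]
    have h4 : φ x * φ y = φ y * φ x * (n * φ ζ * n⁻¹) := by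
      rw [hx', hy']
      calc n * φ b * n⁻¹ * (n * φ ζ₁ * n⁻¹) = n * (φ b * φ ζ₁) * n⁻¹ := by group
        _ = n * (φ ζ₁ * φ b * φ ζ) * n⁻¹ := by rw [h3]
        _ = n * φ ζ₁ * n⁻¹ * (n * φ b * n⁻¹) * (n * φ ζ * n⁻¹) := by group
    rw [hT, mem_centralizer_singleton_iff]
    rcases T_comm x hx y hy with h5 | h5
    · exfalso
      have h6 : φ x * φ y = φ y * φ x := by rw [← map_mul, ← map_mul, h5]
      rw [h6] at h4
      have h7 : n * φ ζ * n⁻¹ = 1 := by
        have := h4.symm
        rwa [mul_eq_left] at this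
      have h8 : φ ζ = 1 := by
        have := mul_inv_eq_one.1 h7
        rwa [mul_eq_left] at this
      exact ζ_ne (h.inj (by rw [h8, map_one]))
    · have h6 : φ x * φ y = φ y * φ x * φ ζ := by rw [← map_mul, ← map_mul, ← map_mul, h5]
      rw [h6] at h4
      have h7 : φ ζ = n * φ ζ * n⁻¹ := mul_left_cancel h4
      calc n * φ ζ = (n * φ ζ * n⁻¹) * n := by group
        _ = φ ζ * n := by rw [← h7]
  have htop : T ⊔ M = ⊤ := by
    rw [eq_top_iff, ← hF]
    apply sup_le_sup _ le_rfl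
    rw [hPD]
    exact hN
  have h1 := Cfsg.Agent.Lib.ProductSet.card_mul_card_inf T M
  have h2 : Nat.card ↥(T ⊔ M) * Nat.card ↥(T ⊓ M) = Nat.card T * Nat.card M := by
    rw [← h1]
    congr 1
    exact Nat.card_congr (Equiv.setCongr (Subgroup.mul_normal T M))
  rw [htop, S.card_D h, h.card_T, Nat.card_congr Subgroup.topEquiv.toEquiv] at h2
  omega

/-- `b` is conjugate to `z` -/
theorem b_conj [Finite G] {b : Q} (hb : b = α ∨ b = τ * α) (hbM : φ b ∈ M) : ∃ g : G, g * φ ζ * g⁻¹ = φ b := by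
  have : Fact (Nat.Prime 2) := ⟨Nat.prime_two⟩
  haveI := S.normal
  haveI := S.simple
  set T := centralizer ({φ ζ} : Set G) with hT
  set D : Subgroup M := T.subgroupOf M with hD
  have hDc : Nat.card D = 2 ^ (Nat.card M).factorization 2 := by
    rw [← S.card_inf h, ← card_map_of_injective M.subtype_injective, hD, subgroupOf_map_subtype]
  let P : Sylow 2 M := Sylow.ofCard D hDc
  obtain ⟨hz, hz1, hz2⟩ := S.V_le h
  set V : Subgroup G := (centralizer ({ζ, ζ₁} : Set Q) ⊓ χ₁.ker : Subgroup Q).map φ with hV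
  have hVel : ∀ x ∈ V, x = 1 ∨ x = φ ζ ∨ x = φ ζ₁ ∨ x = φ ζ₂ := by
    rintro _ ⟨q, hq, rfl⟩
    have h1 := S6Model.mem_W.1 (mem_inf.1 hq).1
    rcases V_cases q h1.1 h1.2 (mem_inf.1 hq).2 with rfl | rfl | rfl | rfl
    · exact Or.inl (map_one φ)
    · exact Or.inr (Or.inl rfl)
    · exact Or.inr (Or.inr (Or.inl rfl))
    · exact Or.inr (Or.inr (Or.inr rfl))
  have hVM : V ≤ M := by
    intro x hx
    rcases hVel x hx with rfl | rfl | rfl | rfl
    · exact one_mem _
    · exact hz
    · exact hz1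
    · exact hz2
  have hVT : V ≤ T := by
    rintro _ ⟨q, hq, rfl⟩
    exact h.mem_T.2 ⟨q, (S6Model.mem_W.1 (mem_inf.1 hq).1).1, rfl⟩
  have hVD : V.subgroupOf M ≤ D := by
    intro x hx
    exact hVT hx
  have hidx : (V.subgroupOf M).relIndex (P : Subgroup M) = 2 := by
    have h1 : Nat.card ((V.subgroupOf M).subgroupOf D) = 4 := by
      rw [Nat.card_congr (Subgroup.subgroupOfEquivOfLe hVD).toEquiv, Nat.card_congr (Subgroup.subgroupOfEquivOfLe hVM).toEquiv]
      exact (card_map_of_injective h.inj).trans S6Model.card_V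
    have h2 := Subgroup.index_mul_card ((V.subgroupOf M).subgroupOf D)
    rw [h1, hDc, S.fac_three h] at h2
    show ((V.subgroupOf M).subgroupOf D).index = 2
    omega
  have hb1 : b ≠ 1 := by
    rcases hb with rfl | rfl
    · exact α_ne
    · exact τα_ne
  have hbb : b * b = 1 := by
    rcases hb with rfl | rfl
    · exact αα
    · exact τατα
  have hbord : orderOf (⟨φ b, hbM⟩ : M) = 2 := by
    rw [← Subgroup.orderOf_coe]
    show orderOf (φ b) = 2
    rw [orderOf_injective φ h.inj]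
    exact orderOf_eq_prime (by rw [pow_two]; exact hbb) hb1
  by_contra hcon
  push Not at hcon
  obtain ⟨f, hf⟩ := Cfsg.Agent.Classification.TransferSign.exists_hom_neg_one P (V.subgroupOf M) hVD hidx _ hbord (by
    intro g hg
    have h1 : (g : G) * φ b * (g : G)⁻¹ ∈ V := hg
    obtain ⟨c₁, hc₁⟩ := conj_ζ₁
    obtain ⟨c₂, hc₂⟩ := conj_ζ₂
    have key : ∀ v c : Q, c * ζ = v * c → (g : G) * φ b * (g : G)⁻¹ = φ v → False := by
      intro v c hc he
      apply hcon ((g : G)⁻¹ * φ c)
      have : φ c * φ ζ = φ v * φ c := by rw [← map_mul, hc, map_mul]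
      calc (g : G)⁻¹ * φ c * φ ζ * ((g : G)⁻¹ * φ c)⁻¹ = (g : G)⁻¹ * (φ c * φ ζ) * (φ c)⁻¹ * g := by group
        _ = (g : G)⁻¹ * φ v * g := by rw [this]; group
        _ = φ b := by rw [← he]; group
    rcases hVel _ h1 with h2 | h2 | h2 | h2
    · have h3 : φ b = 1 := by
        have := mul_inv_eq_one.1 h2
        rwa [mul_eq_left] at this
      exact hb1 (h.inj (by rw [h3, map_one]))
    · exact key ζ 1 (by simp) h2
    · exact key ζ₁ c₁ hc₁ h2
    · exact key ζ₂ c₂ hc₂ h2)
  rw [no_sign (S.nonabelian h) f] at hf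
  exact absurd hf (by decide)

/-- the order 168 is impossible -/
theorem card_360 [Finite G] : Nat.card M = 360 := by
  refine (S.card_M h).resolve_left fun h168 => ?_
  haveI := S.normal
  have hG := S.card_G_eq h
  rw [h168] at hG
  have hcc := card_conj_mul (φ τ)
  rw [h.card_C, hG] at hcc
  have h7 : Nat.card (conjugatesOf (φ τ)) = 7 := by omega
  -- the conjugates of `t` all commute with `t`
  have hall : ∀ g : G, (g * φ τ * g⁻¹) * φ τ = φ τ * (g * φ τ * g⁻¹) := by
    obtain ⟨b, hb, hbM⟩ := S.exists_b h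
    obtain ⟨g₀, hg₀⟩ := h.conj_tb hb (S.b_conj h hb hbM)
    obtain ⟨l, hl, hll⟩ : ∃ l : List Q, l.Nodup ∧ l.length = 7 ∧ ∀ q ∈ l, ∃ g : G, g * φ τ * g⁻¹ = φ q := by
      rcases hb with rfl | rfl
      · refine ⟨listA, listA_nodup, rfl, fun q hq => ?_⟩
        rcases listA_conj q hq with rfl | ⟨c, hc⟩
        · exact ⟨1, by group⟩
        · exact Hyp.trans_conj hc ⟨g₀, hg₀⟩
      · refine ⟨listB, listB_nodup, rfl, fun q hq => ?_⟩
        rcases listB_conj q hq with rfl | ⟨c, hc⟩
        · exact ⟨1, by group⟩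
        · refine Hyp.trans_conj hc ⟨g₀, ?_⟩
          rw [hg₀]; exact congrArg φ ατ
    obtain ⟨hl7, hlc⟩ := hll
    classical
    have hsub : ((l.map φ).toFinset : Set G) ⊆ conjugatesOf (φ τ) := by
      intro x hx
      rw [Finset.mem_coe, List.mem_toFinset, List.mem_map] at hx
      obtain ⟨q, hq, rfl⟩ := hx
      obtain ⟨g, hg⟩ := hlc q hq
      rw [conjugatesOf, Set.mem_ofPred_eq, isConj_iff]
      exact ⟨g, hg⟩
    have hcard : ((l.map φ).toFinset : Set G).ncard = 7 := by
      rw [Set.ncard_coe_finset, List.toFinset_card_of_nodup (hl.map h.inj), List.length_map, hl7]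
    have heq : ((l.map φ).toFinset : Set G) = conjugatesOf (φ τ) := by
      apply Set.eq_of_subset_of_ncard_le hsub _ (Set.toFinite _)
      rw [hcard]
      exact h7.le
    intro g
    have h1 : g * φ τ * g⁻¹ ∈ conjugatesOf (φ τ) := by
      rw [conjugatesOf, Set.mem_ofPred_eq, isConj_iff]; exact ⟨g, rfl⟩
    rw [← heq, Finset.mem_coe, List.mem_toFinset, List.mem_map] at h1
    obtain ⟨q, -, hq⟩ := h1
    rw [← hq]
    exact (h.comm_iff _ _).2 (τ_comm q)
  -- so `t` commutes with `M`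
  have hcomm : ∀ g k : G, (g * φ τ * g⁻¹) * (k * φ τ * k⁻¹) = (k * φ τ * k⁻¹) * (g * φ τ * g⁻¹) := by
    intro g k
    have h1 := hall (k⁻¹ * g)
    calc (g * φ τ * g⁻¹) * (k * φ τ * k⁻¹) = k * (((k⁻¹ * g) * φ τ * (k⁻¹ * g)⁻¹) * φ τ) * k⁻¹ := by group
      _ = k * (φ τ * ((k⁻¹ * g) * φ τ * (k⁻¹ * g)⁻¹)) * k⁻¹ := by rw [h1]
      _ = (k * φ τ * k⁻¹) * (g * φ τ * g⁻¹) := by group
  set N := Subgroup.normalClosure ({φ τ} : Set G) with hN
  have hNab : ∀ x ∈ N, ∀ y ∈ N, x * y = y * x := by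
    intro x hx y hy
    have hk : ∀ x ∈ Group.conjugatesOfSet ({φ τ} : Set G), ∀ y ∈ Group.conjugatesOfSet ({φ τ} : Set G), x * y = y * x := by
      intro x hx y hy
      rw [Group.mem_conjugatesOfSet_iff] at hx hy
      obtain ⟨a, ha, hx⟩ := hx
      obtain ⟨b, hb, hy⟩ := hy
      rw [Set.mem_singleton_iff] at ha hb
      rw [ha, isConj_iff] at hx
      rw [hb, isConj_iff] at hy
      obtain ⟨g, rfl⟩ := hx
      obtain ⟨k, rfl⟩ := hy
      exact hcomm g k
    have := (Subgroup.isMulCommutative_closure hk).is_comm.comm ⟨x, hx⟩ ⟨y, hy⟩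
    exact congrArg Subtype.val this
  have hNn : N.Normal := Subgroup.normalClosure_normal
  have htN : φ τ ∈ N := Subgroup.subset_normalClosure (Set.mem_singleton _)
  haveI := S.simple
  rcases S.simple.eq_bot_or_eq_top_of_normal (N.subgroupOf M) (hNn.subgroupOf M) with h1 | h1
  · have h2 : N ⊓ M = ⊥ := by rw [← subgroupOf_map_subtype, h1, Subgroup.map_bot]
    have h3 : N ≤ centralizer (M : Set G) := by
      intro x hx
      rw [mem_centralizer_iff]
      intro y hy
      have h5 : x * y * x⁻¹ * y⁻¹ ∈ N ⊓ M := by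
        refine mem_inf.2 ⟨?_, ?_⟩
        · have : x * y * x⁻¹ * y⁻¹ = x * (y * x⁻¹ * y⁻¹) := by group
          rw [this]
          exact mul_mem hx (hNn.conj_mem _ (inv_mem hx) y)
        · exact mul_mem (S.normal.conj_mem _ hy x) (inv_mem hy)
      rw [h2, mem_bot] at h5
      calc y * x = (x * y * x⁻¹ * y⁻¹)⁻¹ * x * y := by group
        _ = x * y := by rw [h5]; group
    have h4 := h3 htN
    rw [S.cent, mem_bot] at h4
    exact τ_ne (h.inj (by rw [h4, map_one]))
  · rw [subgroupOf_eq_top] at h1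
    apply S.nonabelian h
    intro a b
    exact Subtype.ext (hNab a (h1 a.2) b (h1 b.2))

open Cfsg.Agent.LFourA.AltPsiAut Cfsg.Agent.H314.S6Aut in
/-- the symmetric group -/
theorem iso [Finite G] : Nonempty (G ≃* Equiv.Perm (Fin 6)) := by
  haveI := S.normal
  haveI := S.simple
  have h360 := S.card_360 h
  have hG : Nat.card G = 720 := by rw [S.card_G_eq h, h360]
  obtain ⟨e⟩ := Cfsg.Agent.S0497.result (G := M) h360
  refine iso_six M S.cent e (fun g => ?_) hG
  -- elements of `M`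
  have hM : ∀ m ∈ M, act M e m ∈ NE := by
    intro m hm
    have : act M e m = MulAut.conj (e ⟨m, hm⟩) := by
      apply MulEquiv.ext
      intro x
      rw [act_apply, MulAut.conj_apply]
      have h1 : (MulAut.conjNormal m : MulAut M) (e.symm x) = ⟨m, hm⟩ * e.symm x * ⟨m, hm⟩⁻¹ := by
        apply Subtype.ext
        rw [MulAut.conjNormal_apply]
        rfl
      rw [h1, map_mul, map_mul, map_inv, e.apply_symm_apply]
    rw [this]
    exact conj_mem_NE _
  -- the involution `t`
  have ht : act M e (φ τ) ∈ NE := by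
    -- an element of order three
    have hρM : φ ρ ∈ M := by
      have hidx : M.index = 2 := by
        have := Subgroup.index_mul_card M
        rw [S.card_G_eq h] at this
        exact Nat.eq_of_mul_eq_mul_right Nat.card_pos this
      have h2 : φ ρ * φ ρ ∈ M := Subgroup.mul_self_mem_of_index_two hidx _
      have h3 : (φ ρ * φ ρ) * (φ ρ * φ ρ) ∈ M := mul_mem h2 h2
      have h4 : (φ ρ * φ ρ) * (φ ρ * φ ρ) = φ ρ := by
        rw [← map_mul, ← map_mul]
        congr 1
        calc ρ * ρ * (ρ * ρ) = ρ * ρ * ρ * ρ := by group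
          _ = ρ := by rw [ρ_cube, one_mul]
      rwa [h4] at h3
    have hord : orderOf (e ⟨φ ρ, hρM⟩) = 3 := by
      rw [MulEquiv.orderOf_eq, ← Subgroup.orderOf_coe]
      show orderOf (φ ρ) = 3
      rw [orderOf_injective φ h.inj]
      exact orderOf_eq_prime (by rw [pow_succ, pow_two, ρ_cube]) ρ_ne
    refine mem_NE_of_three hord ?_
    rw [act_apply, e.symm_apply_apply]
    congr 1
    apply Subtype.ext
    rw [MulAut.conjNormal_apply]
    show φ τ * φ ρ * (φ τ)⁻¹ = φ ρ
    rw [(h.comm_iff _ _).2 (τ_comm ρ).symm]; group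
  -- every element
  by_cases hg : g ∈ M
  · exact hM g hg
  · have hidx : M.index = 2 := by
      have := Subgroup.index_mul_card M
      rw [S.card_G_eq h] at this
      exact Nat.eq_of_mul_eq_mul_right Nat.card_pos this
    have h1 : φ τ * g ∈ M := by
      rw [Subgroup.mul_mem_iff_of_index_two hidx]
      exact ⟨fun hx => absurd hx S.t_not, fun hx => absurd hx hg⟩
    have h2 := hM _ h1
    rw [map_mul] at h2
    exact (Subgroup.mul_mem_cancel_left _ ht).1 h2

end Simp

end Cfsg.Agent.H314.S6Fus
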