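import Cfsg.Agent.H314.S6Simple
import Cfsg.Agent.H314.S6Aut
import Cfsg.Agent.Classification.BSW.Four
import Cfsg.Agent.S0494

/-!
# The order of the Sylow 2-subgroup of the simple normal subgroup (helper314)
-/

set_option autoImplicit false
set_option linter.style.haveILetI false

namespace Cfsg.Agent.H314.S6Fus

open Subgroup Cfsg.Agent.H314.S6Model
open Cfsg.Agent.Classification.BSW.Setup

universe u

variable {G : Type u} [Group G]

/-- no homomorphisms to `±1` from a simple group of composite order -/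
theorem no_sign {X : Type*} [Group X] [Finite X] [hs : IsSimpleGroup X] (hna : ¬ ∀ a b : X, a * b = b * a) (f : X →* ℤˣ) (x : X) :
    f x = 1 := by
  rcases hs.eq_bot_or_eq_top_of_normal f.ker inferInstance with h | h
  · exfalso
    apply hna
    intro a b
    have h1 : f (a * b) = f (b * a) := by rw [map_mul, map_mul, mul_comm]
    exact (MonoidHom.ker_eq_bot_iff f).1 h h1
  · have : x ∈ f.ker := by rw [h]; trivial
    exact this

namespace Simp

variable {φ : Q →* G} (h : Hyp φ) {M : Subgroup G} (S : Simp φ M)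
include h S

theorem nonabelian : ¬ ∀ a b : M, a * b = b * a := by
  intro hab
  have h1 : M ≤ centralizer (M : Set G) := by
    intro x hx
    rw [mem_centralizer_iff]
    intro y hy
    exact congrArg Subtype.val (hab ⟨y, hy⟩ ⟨x, hx⟩)
  rw [S.cent, le_bot_iff] at h1
  have := S.simple.toNontrivial
  rw [h1] at this
  exact not_nontrivial_iff_subsingleton.2 (inferInstance : Subsingleton (⊥ : Subgroup G)) this

theorem not_solvable [Finite G] : ¬ Group.IsSolvable G := by
  intro hG
  have hM : Group.IsSolvable M := inferInstance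
  haveI := S.simple
  apply S.nonabelian h
  intro a b
  exact IsSimpleGroup.comm_iff_isSolvable.2 hM a b

/-- a Sylow 2-subgroup of `M` -/
theorem card_inf [Finite G] : Nat.card (centralizer ({φ ζ} : Set G) ⊓ M : Subgroup G) = 2 ^ (Nat.card M).factorization 2 := by
  have : Fact (Nat.Prime 2) := ⟨Nat.prime_two⟩
  haveI := S.normal
  obtain ⟨P, hP⟩ := h.syl
  obtain ⟨R⟩ : Nonempty (Sylow 2 M) := inferInstance
  have hR : Nat.card (R : Subgroup M) = 2 ^ (Nat.card M).factorization 2 := R.card_eq_multiplicity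
  have hRp : IsPGroup 2 ((R : Subgroup M).map M.subtype) := R.isPGroup'.map _
  obtain ⟨P', hP'⟩ := hRp.exists_le_sylow
  obtain ⟨g, hg⟩ := MulAction.exists_smul_eq G P' P
  have hle : ((R : Subgroup M).map M.subtype).map (MulAut.conj g).toMonoidHom ≤ centralizer ({φ ζ} : Set G) ⊓ M := by
    rintro _ ⟨x, hx, rfl⟩
    refine mem_inf.2 ⟨?_, S.normal.conj_mem x (map_subtype_le _ hx) g⟩
    rw [← hP, ← hg, Sylow.coe_subgroup_smul]
    exact Subgroup.smul_mem_pointwise_smul x (MulAut.conj g) _ (hP' hx)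
  apply le_antisymm
  · -- `T ∩ M` is a 2-subgroup of `M`
    have hp : IsPGroup 2 ((centralizer ({φ ζ} : Set G)).subgroupOf M) := by
      have h1 : IsPGroup 2 (centralizer ({φ ζ} : Set G)) := by rw [← hP]; exact P.isPGroup'
      exact h1.comap_of_injective M.subtype M.subtype_injective
    obtain ⟨R', hR'⟩ := hp.exists_le_sylow
    have h2 : Nat.card ((centralizer ({φ ζ} : Set G)).subgroupOf M) ≤ 2 ^ (Nat.card M).factorization 2 := by
      rw [← R'.card_eq_multiplicity]
      exact Subgroup.card_le_of_le hR'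
    rwa [← card_map_of_injective M.subtype_injective, subgroupOf_map_subtype] at h2
  · rw [← hR]
    have h1 := Subgroup.card_le_of_le hle
    rw [card_map_of_injective (MulAut.conj g).injective, card_map_of_injective M.subtype_injective] at h1
    exact h1

theorem factorization [Finite G] : (Nat.card M).factorization 2 = 2 ∨ (Nat.card M).factorization 2 = 3 := by
  obtain ⟨m, hm, hG⟩ := h.card_G
  have hM0 : Nat.card M ≠ 0 := Nat.card_pos.ne'
  have h1 := S.le m hm hG
  have hm0 : m ≠ 0 := by rintro rfl; exact absurd hm (by decide)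
  have h2 : (8 * m).factorization 2 = 3 := by
    rw [show 8 * m = 2 ^ 3 * m by norm_num, Nat.factorization_mul (by norm_num) hm0, Nat.factorization_pow]
    have h3 : m.factorization 2 = 0 := Nat.factorization_eq_zero_of_not_dvd (fun hd => by
      rw [← even_iff_two_dvd] at hd
      exact (Nat.not_even_iff_odd.2 hm) hd)
    simp [Nat.prime_two.factorization, h3]
  have h3 : (Nat.card M).factorization 2 ≤ 3 := by
    rw [← h2]
    exact (Nat.factorization_le_iff_dvd hM0 (by omega)).2 h1 2
  have h4 : 2 ≤ (Nat.card M).factorization 2 := by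
    rw [← Nat.prime_two.pow_dvd_iff_le_factorization hM0]
    exact S.four
  omega

theorem V_le [Finite G] : φ ζ ∈ M ∧ φ ζ₁ ∈ M ∧ φ ζ₂ ∈ M := by
  have hc : 4 ≤ Nat.card (centralizer ({φ ζ} : Set G) ⊓ M : Subgroup G) := by
    rw [S.card_inf h]
    rcases S.factorization h with h1 | h1 <;> rw [h1] <;> norm_num
  have hne : centralizer ({φ ζ} : Set G) ⊓ M ≠ ⊥ := by
    intro he
    rw [he, Subgroup.card_bot] at hc
    omega
  obtain ⟨x, hx, hx1⟩ : ∃ x ∈ centralizer ({φ ζ} : Set G) ⊓ M, x ≠ 1 := by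
    by_contra hcon
    push Not at hcon
    exact hne ((Subgroup.eq_bot_iff_forall _).2 hcon)
  obtain ⟨q, -, rfl⟩ := h.mem_T.1 (mem_inf.1 hx).1
  have hxM := (mem_inf.1 hx).2
  have hq1 : q ≠ 1 := by rintro rfl; exact hx1 (map_one φ)
  have hqτ : q ≠ τ := by rintro rfl; exact S.t_not hxM
  obtain ⟨c, hc⟩ := comm_V q hq1 hqτ
  have h1 : φ (q * c * q⁻¹ * c⁻¹) ∈ M := by
    have : φ (q * c * q⁻¹ * c⁻¹) = φ q * (φ c * (φ q)⁻¹ * (φ c)⁻¹) := by
      rw [map_mul, map_mul, map_mul, map_inv, map_inv]; group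
    rw [this]
    exact mul_mem hxM (S.normal.conj_mem _ (inv_mem hxM) _)
  have conj : ∀ {a b c : Q}, c * a = b * c → φ a ∈ M → φ b ∈ M := by
    intro a b c hc ha
    have h2 : φ b = φ c * φ a * (φ c)⁻¹ := by
      rw [← map_mul, hc, map_mul]; group
    rw [h2]
    exact S.normal.conj_mem _ ha _
  have conj' : ∀ {a b c : Q}, c * a = b * c → φ b ∈ M → φ a ∈ M := by
    intro a b c hc ha
    have h2 : φ a = (φ c)⁻¹ * φ b * ((φ c)⁻¹)⁻¹ := by
      have : φ c * φ a = φ b * φ c := by rw [← map_mul, hc, map_mul]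
      rw [inv_inv, mul_assoc, ← this]; group
    rw [h2]
    exact S.normal.conj_mem _ ha _
  obtain ⟨c₁, hc₁⟩ := conj_ζ₁
  obtain ⟨c₂, hc₂⟩ := conj_ζ₂
  have h2 : φ ζ ∈ M := by
    rcases hc with hc | hc | hc
    · rwa [hc] at h1
    · rw [hc] at h1
      exact conj' hc₁ h1
    · rw [hc] at h1
      exact conj' hc₂ h1
  exact ⟨h2, conj hc₁ h2, conj hc₂ h2⟩

/-- `|M|₂ = 4` is impossible -/
theorem not_four [Finite G] : (Nat.card M).factorization 2 ≠ 2 := by
  intro hf
  haveI := S.normal
  haveI := S.simple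
  have : Fact (Nat.Prime 2) := ⟨Nat.prime_two⟩
  have hc : Nat.card (centralizer ({φ ζ} : Set G) ⊓ M : Subgroup G) = 4 := by
    rw [S.card_inf h, hf]; norm_num
  obtain ⟨hz, hz1, hz2⟩ := S.V_le h
  have hne : ∀ {a b : Q}, a ≠ b → φ a ≠ φ b := fun hab he => hab (h.inj he)
  -- the elements of `T ∩ M`
  have key : ∀ x ∈ centralizer ({φ ζ} : Set G) ⊓ M, x = 1 ∨ x = φ ζ ∨ x = φ ζ₁ ∨ x = φ ζ₂ := by
    intro x hx
    by_contra hcon
    push Not at hcon
    obtain ⟨e1, e2, e3, e4⟩ := hcon
    have hsub : ({1, φ ζ, φ ζ₁, φ ζ₂, x} : Set G) ⊆ (centralizer ({φ ζ} : Set G) ⊓ M : Subgroup G) := by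
      intro y hy
      simp only [Set.mem_insert_iff, Set.mem_singleton_iff] at hy
      rcases hy with rfl | rfl | rfl | rfl | rfl
      · exact one_mem _
      · exact mem_inf.2 ⟨h.mem_T.2 ⟨ζ, rfl, rfl⟩, hz⟩
      · exact mem_inf.2 ⟨h.mem_T.2 ⟨ζ₁, by decide, rfl⟩, hz1⟩
      · exact mem_inf.2 ⟨h.mem_T.2 ⟨ζ₂, by decide, rfl⟩, hz2⟩
      · exact hx
    have h5 : ({1, φ ζ, φ ζ₁, φ ζ₂, x} : Set G).ncard = 5 := by
      have a1 : (1 : G) ≠ φ ζ := by rw [← map_one φ]; exact hne (by decide)
      have a2 : (1 : G) ≠ φ ζ₁ := by rw [← map_one φ]; exact hne (by decide)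
      have a3 : (1 : G) ≠ φ ζ₂ := by rw [← map_one φ]; exact hne (by decide)
      have a4 : φ ζ ≠ φ ζ₁ := hne (by decide)
      have a5 : φ ζ ≠ φ ζ₂ := hne (by decide)
      have a6 : φ ζ₁ ≠ φ ζ₂ := hne (by decide)
      rw [Set.ncard_insert_of_notMem, Set.ncard_insert_of_notMem, Set.ncard_insert_of_notMem, Set.ncard_insert_of_notMem,
        Set.ncard_singleton]
      · simp only [Set.mem_singleton_iff]; exact Ne.symm e4
      · simp only [Set.mem_insert_iff, Set.mem_singleton_iff, not_or]; exact ⟨a6, Ne.symm e3⟩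
      · simp only [Set.mem_insert_iff, Set.mem_singleton_iff, not_or]; exact ⟨a4, a5, Ne.symm e2⟩
      · simp only [Set.mem_insert_iff, Set.mem_singleton_iff, not_or]; exact ⟨a1, a2, a3, Ne.symm e1⟩
    have h6 := Set.ncard_le_ncard hsub (Set.toFinite _)
    rw [h5] at h6
    have h7 : ((centralizer ({φ ζ} : Set G) ⊓ M : Subgroup G) : Set G).ncard = 4 := hc
    rw [h7] at h6
    omega
  let _ : Fintype M := Fintype.ofFinite _
  set z' : M := ⟨φ ζ, hz⟩ with hz'
  set s' : M := ⟨φ ζ₁, hz1⟩ with hs'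
  have hzz : z' * z' = 1 := Subtype.ext (by
    show φ ζ * φ ζ = 1
    rw [← map_mul, ζ_sq, map_one])
  have hss : s' * s' = 1 := Subtype.ext (by
    show φ ζ₁ * φ ζ₁ = 1
    rw [← map_mul, ζ₁_sq, map_one])
  have hz'1 : z' ≠ 1 := fun he => hne ζ_ne ((congrArg Subtype.val he).trans (map_one φ).symm)
  have hord : orderOf z' = 2 := orderOf_eq_prime (by rw [pow_two]; exact hzz) hz'1
  have hmemz : ∀ x ∈ Subgroup.zpowers z', x = 1 ∨ x = z' := by
    intro x hx
    rw [Subgroup.mem_zpowers_iff] at hx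
    obtain ⟨k, rfl⟩ := hx
    rcases Int.even_or_odd k with ⟨j, rfl⟩ | ⟨j, rfl⟩
    · left
      rw [← two_mul, zpow_mul, show (z' ^ (2 : ℤ)) = z' * z' by rw [zpow_two], hzz, one_zpow]
    · right
      rw [zpow_add, zpow_mul, zpow_one, show (z' ^ (2 : ℤ)) = z' * z' by rw [zpow_two], hzz, one_zpow, one_mul]
  have hcentM : ∀ g : M, g * z' = z' * g → g = 1 ∨ g = z' ∨ g = s' ∨ g = z' * s' := by
    intro g hg
    have hg' : (g : G) ∈ centralizer ({φ ζ} : Set G) ⊓ M :=
      mem_inf.2 ⟨mem_centralizer_singleton_iff.2 (congrArg Subtype.val hg), g.2⟩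
    rcases key _ hg' with h1 | h1 | h1 | h1
    · exact Or.inl (Subtype.ext h1)
    · exact Or.inr (Or.inl (Subtype.ext h1))
    · exact Or.inr (Or.inr (Or.inl (Subtype.ext h1)))
    · refine Or.inr (Or.inr (Or.inr (Subtype.ext ?_)))
      show (g : G) = φ ζ * φ ζ₁
      rw [h1, ← map_mul]
      exact congrArg φ ζ₂_eq
  have hzs : z' * s' = s' * z' := Subtype.ext (by
    show φ ζ * φ ζ₁ = φ ζ₁ * φ ζ
    rw [← map_mul, ← map_mul]; exact congrArg φ ζζ₁)
  have hcent2 : ∀ g : M, g * z' = z' * g → g ∈ Subgroup.zpowers z' ∨ s' * g ∈ Subgroup.zpowers z' := by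
    intro g hg
    rcases hcentM g hg with rfl | rfl | rfl | rfl
    · exact Or.inl (one_mem _)
    · exact Or.inl (Subgroup.mem_zpowers _)
    · right; rw [hss]; exact one_mem _
    · right
      rw [← mul_assoc, ← hzs, mul_assoc, hss, mul_one]; exact Subgroup.mem_zpowers _
  have hs_not : s' ∉ Subgroup.zpowers z' := by
    intro hs
    rcases hmemz _ hs with h1 | h1
    · exact hne ζ₁_ne ((congrArg Subtype.val h1).trans (map_one φ).symm)
    · exact hne ζ₁_ne_ζ (congrArg Subtype.val h1)
  -- the Sylow subgroup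
  set D : Subgroup M := (centralizer ({φ ζ} : Set G)).subgroupOf M with hD
  have hDc : Nat.card D = 2 ^ (Nat.card M).factorization 2 := by
    rw [← S.card_inf h, ← card_map_of_injective M.subtype_injective, hD, subgroupOf_map_subtype]
  let P : Sylow 2 M := Sylow.ofCard D hDc
  have hPD : (P : Subgroup M) = D := rfl
  have hDcent : ∀ x : M, x ∈ D ↔ x * z' = z' * x := by
    intro x
    rw [hD, mem_subgroupOf, mem_centralizer_singleton_iff]
    exact ⟨fun h1 => Subtype.ext h1, fun h1 => congrArg Subtype.val h1⟩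
  have hzle : Subgroup.zpowers z' ≤ D := by
    rw [Subgroup.zpowers_le, hDcent]
  have hzidx : (Subgroup.zpowers z').relIndex (P : Subgroup M) = 2 := by
    rw [hPD]
    have h1 : Nat.card ((Subgroup.zpowers z').subgroupOf D) = 2 := by
      rw [Nat.card_congr (Subgroup.subgroupOfEquivOfLe hzle).toEquiv, Nat.card_zpowers, hord]
    have h2 := Subgroup.index_mul_card ((Subgroup.zpowers z').subgroupOf D)
    rw [h1, hDc, hf] at h2
    show ((Subgroup.zpowers z').subgroupOf D).index = 2
    omega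
  have hdata : BSWData (Subgroup.zpowers z') z' s' := by
    refine ⟨?_, Subgroup.mem_zpowers _, hz'1, hzz, hss, hs_not, ?_, hcent2, ?_, ?_⟩
    · intro a ha b hb
      rcases hmemz a ha with rfl | rfl <;> rcases hmemz b hb with rfl | rfl <;> simp
    · intro a ha
      rcases hmemz a ha with rfl | rfl
      · simp
      · have h1 : z'⁻¹ = z' := inv_eq_of_mul_eq_one_right hzz
        rw [h1, ← hzs]; group
    · intro g x hx hx1 hgx
      rcases hmemz x hx with rfl | rfl
      · exact absurd rfl hx1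
      · rcases hmemz _ hgx with h1 | h1
        · exfalso
          apply hx1
          have := mul_inv_eq_one.1 h1
          rwa [mul_eq_left] at this
        · apply hcent2
          calc g * z' = (g * z' * g⁻¹) * g := by group
            _ = z' * g := by rw [h1]
    · intro u hu1 huu
      by_contra hcon
      push Not at hcon
      obtain ⟨f, hf'⟩ := Cfsg.Agent.Classification.TransferSign.exists_hom_neg_one P (Subgroup.zpowers z') hzle hzidx u
        (orderOf_eq_prime (by rw [pow_two]; exact huu) hu1) (by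
          intro g hg
          rcases hmemz _ hg with h1 | h1
          · apply hu1
            have := mul_inv_eq_one.1 h1
            rwa [mul_eq_left] at this
          · exact hcon g h1)
      rw [no_sign (S.nonabelian h) f u] at hf'
      exact absurd hf' (by decide)
  have h60 : Nat.card M = 60 := by
    apply Cfsg.Agent.Classification.BSW.Four.card_sixty hdata
    rw [Nat.card_zpowers, hord]
  obtain ⟨e⟩ := Cfsg.Agent.S0494.result (G := M) h60
  have h120 := Cfsg.Agent.H314.S6Aut.card_le_of_five M S.cent e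
  -- `240 ∣ |G|`
  obtain ⟨m, hm, hG⟩ := h.card_G
  have h1 : 60 ∣ Nat.card G := by rw [← h60]; exact Subgroup.card_subgroup_dvd_card M
  have h2 : 16 ∣ Nat.card G := by rw [hG]; exact dvd_mul_right 16 m
  have h3 : 240 ∣ Nat.card G := by omega
  have h4 : 0 < Nat.card G := Nat.card_pos
  have := Nat.le_of_dvd h4 h3
  omega

end Simp

end Cfsg.Agent.H314.S6Fus
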