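import Cfsg.Agent.H314.S6Model

/-!
# Fusion in a group with an involution centralizer `Z₂ × S₄` (helper314)
-/

set_option autoImplicit false

namespace Cfsg.Agent.H314.S6Fus

open Subgroup Cfsg.Agent.H314.S6Model

variable {G : Type*} [Group G]

/-- The situation: `C(t) = φ(Z₂ × S₄)`, `C(z) = φ(Z₂ × D₈)` a Sylow 2-subgroup. -/
structure Hyp (φ : Q →* G) : Prop where
  inj : Function.Injective φ
  cent_t : ∀ g, g * φ τ = φ τ * g → ∃ q, φ q = g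
  cent_z : ∀ g, g * φ ζ = φ ζ * g → ∃ q, φ q = g
  syl : ∃ P : Sylow 2 G, (P : Subgroup G) = centralizer ({φ ζ} : Set G)

namespace Hyp

variable {φ : Q →* G} (h : Hyp φ)
include h

theorem comm_iff (p q : Q) : φ p * φ q = φ q * φ p ↔ p * q = q * p := by
  rw [← map_mul, ← map_mul]
  exact ⟨fun e => h.inj e, fun e => congrArg φ e⟩

theorem mem_T {g : G} : g ∈ centralizer ({φ ζ} : Set G) ↔ ∃ q, q * ζ = ζ * q ∧ φ q = g := by
  rw [mem_centralizer_singleton_iff]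
  constructor
  · intro hg
    obtain ⟨q, rfl⟩ := h.cent_z g hg
    exact ⟨q, (h.comm_iff _ _).1 hg, rfl⟩
  · rintro ⟨q, hq, rfl⟩
    exact (h.comm_iff _ _).2 hq

theorem mem_C {g : G} : g ∈ centralizer ({φ τ} : Set G) ↔ ∃ q, φ q = g := by
  rw [mem_centralizer_singleton_iff]
  constructor
  · exact h.cent_t g
  · rintro ⟨q, rfl⟩
    exact (h.comm_iff _ _).2 (τ_comm q)

/-- `N(T) = T` -/
theorem norm_T {n : G} (hn : n ∈ normalizer ((centralizer ({φ ζ} : Set G) : Subgroup G) : Set G)) :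
    n ∈ centralizer ({φ ζ} : Set G) := by
  rw [mem_centralizer_singleton_iff]
  have hα : α * ζ = ζ * α := E_le_T α rfl
  have hζ₁ : ζ₁ * ζ = ζ * ζ₁ := by decide
  have h1 := (mem_normalizer_iff.1 hn (φ α)).1 (h.mem_T.2 ⟨α, hα, rfl⟩)
  have h2 := (mem_normalizer_iff.1 hn (φ ζ₁)).1 (h.mem_T.2 ⟨ζ₁, hζ₁, rfl⟩)
  obtain ⟨a, ha, ha'⟩ := h.mem_T.1 h1
  obtain ⟨b, hb, hb'⟩ := h.mem_T.1 h2
  have h3 : φ α * φ ζ₁ = φ ζ₁ * φ α * φ ζ := by
    rw [← map_mul, ← map_mul, ← map_mul, T_comm']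
  have h4 : φ a * φ b = φ b * φ a * (n * φ ζ * n⁻¹) := by
    rw [ha', hb']
    calc n * φ α * n⁻¹ * (n * φ ζ₁ * n⁻¹) = n * (φ α * φ ζ₁) * n⁻¹ := by group
      _ = n * (φ ζ₁ * φ α * φ ζ) * n⁻¹ := by rw [h3]
      _ = n * φ ζ₁ * n⁻¹ * (n * φ α * n⁻¹) * (n * φ ζ * n⁻¹) := by group
  rcases T_comm a ha b hb with h5 | h5
  · exfalso
    have h6 : φ a * φ b = φ b * φ a := by rw [← map_mul, ← map_mul, h5]
    rw [h6] at h4
    have h7 : n * φ ζ * n⁻¹ = 1 := by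
      have := h4.symm
      rwa [mul_eq_left] at this
    have h8 : φ ζ = 1 := by
      have := mul_inv_eq_one.1 h7
      rwa [mul_eq_left] at this
    exact ζ_ne (h.inj (by rw [h8, map_one]))
  · have h6 : φ a * φ b = φ b * φ a * φ ζ := by rw [← map_mul, ← map_mul, ← map_mul, h5]
    rw [h6] at h4
    have h7 : φ ζ = n * φ ζ * n⁻¹ := mul_left_cancel h4
    calc n * φ ζ = (n * φ ζ * n⁻¹) * n := by group
      _ = φ ζ * n := by rw [← h7]

/-- Burnside fusion -/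
theorem burnside {x y : Q} (hx : ∀ q, q * ζ = ζ * q → q * x = x * q) (hy : ∀ q, q * ζ = ζ * q → q * y = y * q)
    {g : G} (hg : g * φ x * g⁻¹ = φ y) [Finite G] : x = y := by
  obtain ⟨P, hP⟩ := h.syl
  have e1 : φ x ∈ centralizer ((P : Subgroup G) : Set G) := by
    rw [hP, mem_centralizer_iff]
    intro u hu
    obtain ⟨q, hq, rfl⟩ := h.mem_T.1 hu
    exact (h.comm_iff _ _).2 (hx q hq)
  have e2 : φ y ∈ centralizer ((P : Subgroup G) : Set G) := by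
    rw [hP, mem_centralizer_iff]
    intro u hu
    obtain ⟨q, hq, rfl⟩ := h.mem_T.1 hu
    exact (h.comm_iff _ _).2 (hy q hq)
  have e3 : (g⁻¹)⁻¹ * φ x * g⁻¹ ∈ centralizer ((P : Subgroup G) : Set G) := by
    rw [inv_inv, hg]; exact e2
  obtain ⟨n, hn, hn'⟩ := Sylow.conj_eq_normalizer_conj_of_mem_centralizer P (φ x) g⁻¹ e1 e3
  rw [inv_inv, hg] at hn'
  have hn2 : n ∈ centralizer ({φ ζ} : Set G) := by
    apply h.norm_T
    rw [← hP]; exact hn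
  obtain ⟨q, hq, rfl⟩ := h.mem_T.1 hn2
  have e4 : φ x * φ q = φ q * φ x := (h.comm_iff _ _).2 (hx q hq).symm
  apply h.inj
  rw [hn']
  calc φ x = (φ q)⁻¹ * (φ q * φ x) := by group
    _ = (φ q)⁻¹ * φ x * φ q := by rw [← e4]; group

theorem τζ_ne [Finite G] : ∀ g : G, g * φ τ * g⁻¹ ≠ φ ζ := fun g hg =>
  absurd (h.burnside (fun q _ => τ_comm q) (fun q hq => hq) hg) (by decide)

theorem ζτ_ne [Finite G] : ∀ g : G, g * φ ζ * g⁻¹ ≠ φ τ := fun g hg =>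
  absurd (h.burnside (fun q hq => hq) (fun q _ => τ_comm q) hg) (by decide)

omit [Group G] h in
theorem comm_τζ : ∀ q : Q, q * ζ = ζ * q → q * (τ * ζ) = (τ * ζ) * q := by decide

theorem τ_τζ_ne [Finite G] : ∀ g : G, g * φ τ * g⁻¹ ≠ φ (τ * ζ) := fun g hg =>
  absurd (h.burnside (fun q _ => τ_comm q) (fun q hq => comm_τζ q hq) hg) (by decide)

theorem ζ_τζ_ne [Finite G] : ∀ g : G, g * φ ζ * g⁻¹ ≠ φ (τ * ζ) := fun g hg =>
  absurd (h.burnside (fun q hq => hq) (fun q hq => comm_τζ q hq) hg) (by decide)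

omit h in
/-- the elementary abelian group `E` -/
theorem mem_E {g : G} : g ∈ (centralizer ({α} : Set Q)).map φ ↔ ∃ q, q * α = α * q ∧ φ q = g := by
  rw [mem_map]
  constructor
  · rintro ⟨q, hq, rfl⟩
    exact ⟨q, mem_centralizer_singleton_iff.1 hq, rfl⟩
  · rintro ⟨q, hq, rfl⟩
    exact ⟨q, mem_centralizer_singleton_iff.2 hq, rfl⟩

omit h in
theorem mem_W {g : G} : g ∈ (centralizer ({ζ, ζ₁} : Set Q)).map φ ↔ ∃ q, (q * ζ = ζ * q ∧ q * ζ₁ = ζ₁ * q) ∧ φ q = g := by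
  rw [mem_map]
  constructor
  · rintro ⟨q, hq, rfl⟩
    exact ⟨q, S6Model.mem_W.1 hq, rfl⟩
  · rintro ⟨q, hq, rfl⟩
    exact ⟨q, S6Model.mem_W.2 hq, rfl⟩

theorem card_E [Finite G] : Nat.card ((centralizer ({α} : Set Q)).map φ : Subgroup G) = 8 := by
  rw [← S6Model.card_E]
  exact (Nat.card_congr (Subgroup.equivMapOfInjective _ φ h.inj).toEquiv).symm

theorem card_W [Finite G] : Nat.card ((centralizer ({ζ, ζ₁} : Set Q)).map φ : Subgroup G) = 8 := by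
  rw [← S6Model.card_W]
  exact (Nat.card_congr (Subgroup.equivMapOfInjective _ φ h.inj).toEquiv).symm

/-- the elementary abelian subgroups of order 8 of `T` -/
theorem eq_E_or_W [Finite G] {A : Subgroup G} (hA : A ≤ centralizer ({φ ζ} : Set G)) (hsq : ∀ x ∈ A, x * x = 1)
    (hcard : Nat.card A = 8) : A = (centralizer ({α} : Set Q)).map φ ∨ A = (centralizer ({ζ, ζ₁} : Set Q)).map φ := by
  have key : ∀ x ∈ A, x ∈ (centralizer ({α} : Set Q)).map φ ∨ x ∈ (centralizer ({ζ, ζ₁} : Set Q)).map φ := by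
    intro x hx
    obtain ⟨q, hq, rfl⟩ := h.mem_T.1 (hA hx)
    have h1 : q * q = 1 := h.inj (by rw [map_mul, hsq _ hx, map_one])
    rcases T_sq_cases q hq h1 with h2 | h2
    · exact Or.inl (mem_E.2 ⟨q, h2, rfl⟩)
    · exact Or.inr (Hyp.mem_W.2 ⟨q, ⟨hq, h2⟩, rfl⟩)
  by_cases h1 : A ≤ (centralizer ({α} : Set Q)).map φ
  · left
    exact Subgroup.eq_of_le_of_card_ge h1 (by rw [h.card_E, hcard])
  by_cases h2 : A ≤ (centralizer ({ζ, ζ₁} : Set Q)).map φ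
  · right
    exact Subgroup.eq_of_le_of_card_ge h2 (by rw [h.card_W, hcard])
  exfalso
  rw [SetLike.not_le_iff_exists] at h1 h2
  obtain ⟨x, hx, hx1⟩ := h1
  obtain ⟨y, hy, hy1⟩ := h2
  have hx2 := (key x hx).resolve_left hx1
  have hy2 := (key y hy).resolve_right hy1
  rcases key _ (mul_mem hx hy) with h3 | h3
  · apply hx1
    have := mul_mem h3 (inv_mem hy2)
    rwa [mul_inv_cancel_right] at this
  · apply hy1
    have := mul_mem (inv_mem hx2) h3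
    rwa [inv_mul_cancel_left] at this

/-- `W ∩ t^G = {t}` -/
theorem W_conj [Finite G] {g : G} (hg : g * φ τ * g⁻¹ ∈ (centralizer ({ζ, ζ₁} : Set Q)).map φ) : g * φ τ * g⁻¹ = φ τ := by
  obtain ⟨q, ⟨hq1, hq2⟩, hq⟩ := Hyp.mem_W.1 hg
  have conj : ∀ {w v c : Q}, c * w = v * c → φ v = g * φ τ * g⁻¹ → ((φ c)⁻¹ * g) * φ τ * ((φ c)⁻¹ * g)⁻¹ = φ w := by
    intro w v c hc he
    have : φ c * φ w = φ v * φ c := by rw [← map_mul, hc, map_mul]
    calc ((φ c)⁻¹ * g) * φ τ * ((φ c)⁻¹ * g)⁻¹ = (φ c)⁻¹ * (g * φ τ * g⁻¹) * φ c := by group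
      _ = (φ c)⁻¹ * (φ v * φ c) := by rw [← he]; group
      _ = φ w := by rw [← this]; group
  rcases W_cases q hq1 hq2 with rfl | rfl | rfl | rfl | rfl | rfl | rfl | rfl
  · exfalso
    rw [map_one] at hq
    have h1 : φ τ = 1 := by
      have := mul_inv_eq_one.1 hq.symm
      rwa [mul_eq_left] at this
    exact τ_ne (h.inj (by rw [h1, map_one]))
  · exact hq.symm
  · exact absurd hq.symm (h.τζ_ne g)
  · obtain ⟨c, hc⟩ := conj_ζ₁
    exact absurd (conj hc hq) (h.τζ_ne _)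
  · obtain ⟨c, hc⟩ := conj_ζ₂
    exact absurd (conj hc hq) (h.τζ_ne _)
  · exact absurd hq.symm (h.τ_τζ_ne g)
  · obtain ⟨c, hc⟩ := conj_ζ₁
    have hc' : c * (τ * ζ) = (τ * ζ₁) * c := by
      rw [← mul_assoc, τ_comm c, mul_assoc, hc, mul_assoc]
    exact absurd (conj hc' hq) (h.τ_τζ_ne _)
  · obtain ⟨c, hc⟩ := conj_ζ₂
    have hc' : c * (τ * ζ) = (τ * ζ₂) * c := by
      rw [← mul_assoc, τ_comm c, mul_assoc, hc, mul_assoc]
    exact absurd (conj hc' hq) (h.τ_τζ_ne _)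

/-- Sylow's theorem in `C(t)` -/
theorem exists_conj_le [Finite G] {A : Subgroup G} (hA : A ≤ centralizer ({φ τ} : Set G)) (hp : IsPGroup 2 A) :
    ∃ c, c * φ τ = φ τ * c ∧ ∀ a ∈ A, c * a * c⁻¹ ∈ centralizer ({φ ζ} : Set G) := by
  have : Fact (Nat.Prime 2) := ⟨Nat.prime_two⟩
  -- `A` in `Q`
  have hp' : IsPGroup 2 (A.comap φ) := hp.comap_of_injective φ h.inj
  obtain ⟨R, hR⟩ := hp'.exists_le_sylow
  have hT : IsPGroup 2 (centralizer ({ζ} : Set Q)) := IsPGroup.of_card (n := 4) (by rw [S6Model.card_T]; norm_num)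
  obtain ⟨S, hS⟩ := hT.exists_le_sylow
  have hS' : (S : Subgroup Q) = centralizer ({ζ} : Set Q) := by
    symm
    apply Subgroup.eq_of_le_of_card_ge hS
    rw [S6Model.card_T, S.card_eq_multiplicity, card_Q]
    have : Nat.factorization 48 2 = 4 := by
      rw [show 48 = 2 ^ 4 * 3 by norm_num]
      rw [Nat.factorization_mul (by norm_num) (by norm_num), Nat.factorization_pow]
      simp [Nat.prime_two.factorization, Nat.prime_three.factorization]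
    rw [this]; norm_num
  obtain ⟨c, hc⟩ := MulAction.exists_smul_eq Q R S
  refine ⟨φ c, (h.comm_iff _ _).2 (τ_comm c), fun a ha => ?_⟩
  obtain ⟨q, rfl⟩ := h.mem_C.1 (hA ha)
  have h1 : q ∈ (R : Subgroup Q) := hR (mem_comap.2 ha)
  have h2 : c * q * c⁻¹ ∈ (S : Subgroup Q) := by
    rw [← hc, Sylow.coe_subgroup_smul]
    exact Subgroup.smul_mem_pointwise_smul q (MulAut.conj c) _ h1
  rw [hS', mem_centralizer_singleton_iff] at h2
  exact h.mem_T.2 ⟨c * q * c⁻¹, h2, by rw [map_mul, map_mul, map_inv]⟩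

omit h in
theorem mem_conj_map {E : Subgroup G} {k x : G} : k * x * k⁻¹ ∈ E.map (MulAut.conj k).toMonoidHom ↔ x ∈ E := by
  rw [mem_map]
  constructor
  · rintro ⟨y, hy, he⟩
    have : k * y * k⁻¹ = k * x * k⁻¹ := he
    have h1 : y = x := by
      have := mul_right_cancel this
      exact mul_left_cancel this
    rw [← h1]; exact hy
  · intro hx
    exact ⟨x, hx, rfl⟩

omit h in
theorem E_comm {x y : G} (hx : x ∈ (centralizer ({α} : Set Q)).map φ) (hy : y ∈ (centralizer ({α} : Set Q)).map φ) :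
    x * y = y * x := by
  obtain ⟨p, hp, rfl⟩ := mem_E.1 hx
  obtain ⟨q, hq, rfl⟩ := mem_E.1 hy
  have e1 : (p * q) * α = α * (p * q) := by rw [mul_assoc, hq, ← mul_assoc, hp, mul_assoc]
  have e2 := E_sq _ e1
  have e3 := E_sq _ hp
  have e4 := E_sq _ hq
  rw [← map_mul, ← map_mul]
  congr 1
  calc p * q = p * (p * q * (p * q)) * q := by rw [e2]; group
    _ = (p * p) * q * p * (q * q) := by group
    _ = q * p := by rw [e3, e4]; group

omit h in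
theorem t_mem_E : φ τ ∈ (centralizer ({α} : Set Q)).map φ := mem_E.2 ⟨τ, by decide, rfl⟩
omit h in
theorem z_mem_E : φ ζ ∈ (centralizer ({α} : Set Q)).map φ := mem_E.2 ⟨ζ, by decide, rfl⟩

/-- conjugates of `E` inside `T` -/
theorem conj_E [Finite G] {k : G} (hk : ∀ x ∈ (centralizer ({α} : Set Q)).map φ, k * x * k⁻¹ ∈ centralizer ({φ ζ} : Set G)) :
    k ∈ normalizer (((centralizer ({α} : Set Q)).map φ : Subgroup G) : Set G) ∨
      (∀ x, x ∈ (centralizer ({α} : Set Q)).map φ ↔ k * x * k⁻¹ ∈ (centralizer ({ζ, ζ₁} : Set Q)).map φ) := by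
  set E := (centralizer ({α} : Set Q)).map φ with hE
  set B := E.map (MulAut.conj k).toMonoidHom with hB
  have hBT : B ≤ centralizer ({φ ζ} : Set G) := by
    rintro _ ⟨x, hx, rfl⟩
    exact hk x hx
  have hBs : ∀ x ∈ B, x * x = 1 := by
    rintro _ ⟨x, hx, rfl⟩
    obtain ⟨q, hq, rfl⟩ := mem_E.1 hx
    show k * φ q * k⁻¹ * (k * φ q * k⁻¹) = 1
    calc k * φ q * k⁻¹ * (k * φ q * k⁻¹) = k * (φ q * φ q) * k⁻¹ := by group
      _ = 1 := by rw [← map_mul, E_sq q hq, map_one]; group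
  have hBc : Nat.card B = 8 := by
    rw [← h.card_E, ← hE]
    exact (Nat.card_congr (Subgroup.equivMapOfInjective E _ (MulAut.conj k).injective).toEquiv).symm
  rcases h.eq_E_or_W hBT hBs hBc with h1 | h1
  · left
    rw [mem_normalizer_iff]
    intro x
    rw [← hE] at h1
    constructor
    · intro hx
      rw [← h1, hB, mem_conj_map]; exact hx
    · intro hx
      rw [← mem_conj_map (k := k), ← hB, h1]; exact hx
  · right
    intro x
    rw [← h1, hB, mem_conj_map]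

/-- fusion of `t` in `E` is controlled by `N(E)` -/
theorem exists_norm_t [Finite G] {g : G} (hg : g * φ τ * g⁻¹ ∈ (centralizer ({α} : Set Q)).map φ)
    (hne : g * φ τ * g⁻¹ ≠ φ τ) :
    ∃ n ∈ normalizer (((centralizer ({α} : Set Q)).map φ : Subgroup G) : Set G), n * φ τ * n⁻¹ = g * φ τ * g⁻¹ := by
  set E := (centralizer ({α} : Set Q)).map φ with hE
  set A := E.map (MulAut.conj g⁻¹).toMonoidHom with hA
  have hAC : A ≤ centralizer ({φ τ} : Set G) := by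
    rintro _ ⟨x, hx, rfl⟩
    rw [mem_centralizer_singleton_iff]
    show g⁻¹ * x * (g⁻¹)⁻¹ * φ τ = φ τ * (g⁻¹ * x * (g⁻¹)⁻¹)
    have h1 := E_comm hx hg
    calc g⁻¹ * x * (g⁻¹)⁻¹ * φ τ = g⁻¹ * (x * (g * φ τ * g⁻¹)) * g := by group
      _ = g⁻¹ * ((g * φ τ * g⁻¹) * x) * g := by rw [h1]
      _ = φ τ * (g⁻¹ * x * (g⁻¹)⁻¹) := by group
  have hAp : IsPGroup 2 A := by
    have : Nat.card A = 2 ^ 3 := by
      rw [show (2 : ℕ) ^ 3 = 8 by norm_num, ← h.card_E, ← hE]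
      exact (Nat.card_congr (Subgroup.equivMapOfInjective E _ (MulAut.conj g⁻¹).injective).toEquiv).symm
    exact IsPGroup.of_card this
  obtain ⟨c, hc, hcA⟩ := h.exists_conj_le hAC hAp
  have hct : c⁻¹ * φ τ * c = φ τ := by
    calc c⁻¹ * φ τ * c = c⁻¹ * (φ τ * c) := by group
      _ = φ τ := by rw [← hc]; group
  have hk : ∀ x ∈ E, (c * g⁻¹) * x * (c * g⁻¹)⁻¹ ∈ centralizer ({φ ζ} : Set G) := by
    intro x hx
    have h1 := hcA (g⁻¹ * x * (g⁻¹)⁻¹) ⟨x, hx, rfl⟩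
    have h2 : (c * g⁻¹) * x * (c * g⁻¹)⁻¹ = c * (g⁻¹ * x * (g⁻¹)⁻¹) * c⁻¹ := by group
    rw [h2]; exact h1
  rcases h.conj_E hk with h1 | h1
  · refine ⟨(c * g⁻¹)⁻¹, inv_mem h1, ?_⟩
    calc (c * g⁻¹)⁻¹ * φ τ * ((c * g⁻¹)⁻¹)⁻¹ = g * (c⁻¹ * φ τ * c) * g⁻¹ := by group
      _ = g * φ τ * g⁻¹ := by rw [hct]
  · exfalso
    have h2 := (h1 (φ τ)).1 t_mem_E
    have h3 := h.W_conj h2
    apply hne
    have h4 : g⁻¹ * φ τ * g = φ τ := by
      calc g⁻¹ * φ τ * g = c⁻¹ * ((c * g⁻¹) * φ τ * (c * g⁻¹)⁻¹) * c := by group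
        _ = c⁻¹ * φ τ * c := by rw [h3]
        _ = φ τ := hct
    calc g * φ τ * g⁻¹ = g * (g⁻¹ * φ τ * g) * g⁻¹ := by rw [h4]
      _ = φ τ := by group

/-- fusion of `z` in `E` is controlled by `N(E)` -/
theorem mem_norm_z [Finite G] {g : G} (hg : g * φ ζ * g⁻¹ ∈ (centralizer ({α} : Set Q)).map φ) :
    g ∈ normalizer (((centralizer ({α} : Set Q)).map φ : Subgroup G) : Set G) := by
  set E := (centralizer ({α} : Set Q)).map φ with hE
  have hk : ∀ x ∈ E, g⁻¹ * x * (g⁻¹)⁻¹ ∈ centralizer ({φ ζ} : Set G) := by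
    intro x hx
    rw [mem_centralizer_singleton_iff]
    have h1 := E_comm hx hg
    calc g⁻¹ * x * (g⁻¹)⁻¹ * φ ζ = g⁻¹ * (x * (g * φ ζ * g⁻¹)) * g := by group
      _ = g⁻¹ * ((g * φ ζ * g⁻¹) * x) * g := by rw [h1]
      _ = φ ζ * (g⁻¹ * x * (g⁻¹)⁻¹) := by group
  rcases h.conj_E hk with h1 | h1
  · have := inv_mem h1
    rwa [inv_inv] at this
  · exfalso
    have h2 := (h1 (φ τ)).1 t_mem_E
    have h3 := h.W_conj h2
    -- `g` commutes with `t`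
    have h4 : g⁻¹ * φ τ = φ τ * g⁻¹ := by
      calc g⁻¹ * φ τ = (g⁻¹ * φ τ * (g⁻¹)⁻¹) * g⁻¹ := by group
        _ = φ τ * g⁻¹ := by rw [h3]
    obtain ⟨c, hc⟩ := h.cent_t _ h4
    -- `α ∈ E` goes into `W`
    have h5 := (h1 (φ α)).1 (mem_E.2 ⟨α, rfl, rfl⟩)
    rw [← hc] at h5
    obtain ⟨w, ⟨hw1, hw2⟩, hw⟩ := Hyp.mem_W.1 h5
    have h6 : w = c * α * c⁻¹ := h.inj (by rw [hw, map_mul, map_mul, map_inv])
    rw [h6] at hw1 hw2
    exact α_conj_not_W c hw1 hw2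

omit h in
/-- every element of `E` -/
theorem E_elts {g : G} (hg : g ∈ (centralizer ({α} : Set Q)).map φ) : g = 1 ∨ g = φ τ ∨ g = φ ζ ∨ g = φ (τ * ζ) ∨
    g = φ α ∨ g = φ α' ∨ g = φ (τ * α) ∨ g = φ (τ * α') := by
  obtain ⟨q, hq, rfl⟩ := mem_E.1 hg
  rcases E_cases q hq with rfl | rfl | rfl | rfl | rfl | rfl | rfl | rfl
  · left; exact map_one φ
  all_goals simp

omit h in
/-- transport of non-conjugacy -/
theorem trans_conj {a b : Q} {c : Q} (hc : c * a = b * c) {x : G} (hx : ∃ g : G, g * x * g⁻¹ = φ b) :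
    ∃ g : G, g * x * g⁻¹ = φ a := by
  obtain ⟨g, hg⟩ := hx
  refine ⟨(φ c)⁻¹ * g, ?_⟩
  have : φ c * φ a = φ b * φ c := by rw [← map_mul, hc, map_mul]
  calc (φ c)⁻¹ * g * x * ((φ c)⁻¹ * g)⁻¹ = (φ c)⁻¹ * (g * x * g⁻¹) * φ c := by group
    _ = (φ c)⁻¹ * (φ b * φ c) := by rw [hg]; group
    _ = φ a := by rw [← this]; group

/-- `t` is not conjugate to both `a` and `t a` -/
theorem not_both [Finite G] (h1 : ∃ g : G, g * φ τ * g⁻¹ = φ α) (h2 : ∃ g : G, g * φ τ * g⁻¹ = φ (τ * α)) : False := by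
  obtain ⟨g, hg⟩ := h1
  have hne : g * φ τ * g⁻¹ ≠ φ τ := by
    rw [hg]
    intro he
    exact absurd (h.inj he) (by decide)
  obtain ⟨n, hn, hn'⟩ := h.exists_norm_t (g := g) (by rw [hg]; exact mem_E.2 ⟨α, rfl, rfl⟩) hne
  -- the elements of `E` not conjugate to `t`
  have key : ∀ x ∈ (centralizer ({α} : Set Q)).map φ, x ≠ 1 → (¬ ∃ g : G, g * φ τ * g⁻¹ = x) → x = φ ζ ∨ x = φ (τ * ζ) := by
    intro x hx hx1 hx2
    rcases E_elts hx with rfl | rfl | rfl | rfl | rfl | rfl | rfl | rfl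
    · exact absurd rfl hx1
    · exact absurd ⟨1, by group⟩ hx2
    · exact Or.inl rfl
    · exact Or.inr rfl
    · exact absurd ⟨g, hg⟩ hx2
    · exfalso
      apply hx2
      refine ⟨φ ζ₁ * g, ?_⟩
      have : φ ζ₁ * φ α = φ α' * φ ζ₁ := by rw [← map_mul, conj_α', map_mul]
      calc φ ζ₁ * g * φ τ * (φ ζ₁ * g)⁻¹ = φ ζ₁ * (g * φ τ * g⁻¹) * (φ ζ₁)⁻¹ := by group
        _ = φ α' := by rw [hg, this]; group
    · exact absurd h2 hx2
    · exfalso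
      apply hx2
      obtain ⟨g', hg'⟩ := h2
      refine ⟨φ ζ₁ * g', ?_⟩
      have : φ ζ₁ * φ (τ * α) = φ (τ * α') * φ ζ₁ := by rw [← map_mul, conj_τα', map_mul]
      calc φ ζ₁ * g' * φ τ * (φ ζ₁ * g')⁻¹ = φ ζ₁ * (g' * φ τ * g'⁻¹) * (φ ζ₁)⁻¹ := by group
        _ = φ (τ * α') := by rw [hg', this]; group
  have hτζ : φ (τ * ζ) ∈ (centralizer ({α} : Set Q)).map φ := mem_E.2 ⟨τ * ζ, by decide, rfl⟩
  have hnorm : ∀ x, x ∈ (centralizer ({α} : Set Q)).map φ → n * x * n⁻¹ ∈ (centralizer ({α} : Set Q)).map φ := fun x hx =>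
    (mem_normalizer_iff.1 hn x).1 hx
  have conj_ne : ∀ {x : G}, x ≠ 1 → n * x * n⁻¹ ≠ 1 := by
    intro x hx he
    apply hx
    have := mul_inv_eq_one.1 he
    rwa [mul_eq_left] at this
  have notc : ∀ {x : G}, (¬ ∃ g : G, g * φ τ * g⁻¹ = x) → ¬ ∃ g : G, g * φ τ * g⁻¹ = n * x * n⁻¹ := by
    rintro x hx ⟨g', hg'⟩
    apply hx
    refine ⟨n⁻¹ * g', ?_⟩
    calc n⁻¹ * g' * φ τ * (n⁻¹ * g')⁻¹ = n⁻¹ * (g' * φ τ * g'⁻¹) * n := by group
      _ = x := by rw [hg']; group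
  have hz1 : φ ζ ≠ 1 := fun he => ζ_ne (h.inj (by rw [he, map_one]))
  have hτζ1 : φ (τ * ζ) ≠ 1 := fun he => absurd (h.inj (he.trans (map_one φ).symm)) (by decide)
  have e1 := key _ (hnorm _ z_mem_E) (conj_ne hz1) (notc (fun ⟨g', hg'⟩ => h.τζ_ne g' hg'))
  have e2 := key _ (hnorm _ hτζ) (conj_ne hτζ1) (notc (fun ⟨g', hg'⟩ => h.τ_τζ_ne g' hg'))
  have e1' : n * φ ζ * n⁻¹ = φ ζ := e1.resolve_right (h.ζ_τζ_ne n)
  have e2' : n * φ (τ * ζ) * n⁻¹ = φ (τ * ζ) := by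
    rcases e2 with e2 | e2
    · exfalso
      have : n * φ (τ * ζ) * n⁻¹ = n * φ ζ * n⁻¹ := by rw [e2, e1']
      have h3 := mul_left_cancel (mul_right_cancel this)
      exact absurd (h.inj h3) (by decide)
    · exact e2
  apply hne
  rw [← hn']
  have e3 : φ τ = φ (τ * ζ) * (φ ζ)⁻¹ := by rw [map_mul]; group
  calc n * φ τ * n⁻¹ = (n * φ (τ * ζ) * n⁻¹) * (n * φ ζ * n⁻¹)⁻¹ := by rw [e3]; group
    _ = φ τ := by rw [e2', e1', ← e3]

/-- if `b ∈ {a, t a}` is conjugate to `z`, then `t b` is conjugate to `t` -/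
theorem conj_tb [Finite G] {b : Q} (hb : b = α ∨ b = τ * α) (h1 : ∃ g : G, g * φ ζ * g⁻¹ = φ b) :
    ∃ g : G, g * φ τ * g⁻¹ = φ (τ * b) := by
  by_contra hcon
  obtain ⟨g, hg⟩ := h1
  have hbE : φ b ∈ (centralizer ({α} : Set Q)).map φ := by
    rcases hb with rfl | rfl
    · exact mem_E.2 ⟨_, rfl, rfl⟩
    · exact mem_E.2 ⟨_, by decide, rfl⟩
  have hn := h.mem_norm_z (g := g) (by rw [hg]; exact hbE)
  -- `t` is the only conjugate of `t` in `E`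
  have h2 : g * φ τ * g⁻¹ ∈ (centralizer ({α} : Set Q)).map φ := (mem_normalizer_iff.1 hn _).1 t_mem_E
  have hb' : ∀ b' : Q, ζ₁ * b = b' * ζ₁ → (¬ ∃ g : G, g * φ τ * g⁻¹ = φ b') := by
    rintro b' hb' hg'
    obtain ⟨g₁, hg₁⟩ := trans_conj hb' hg'
    have : (g⁻¹ * g₁) * φ τ * (g⁻¹ * g₁)⁻¹ = φ ζ := by
      calc (g⁻¹ * g₁) * φ τ * (g⁻¹ * g₁)⁻¹ = g⁻¹ * (g₁ * φ τ * g₁⁻¹) * g := by group
        _ = φ ζ := by rw [hg₁, ← hg]; group
    exact h.τζ_ne _ this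
  have hb'' : ∀ b' : Q, ζ₁ * (τ * b) = b' * ζ₁ → (¬ ∃ g : G, g * φ τ * g⁻¹ = φ b') := by
    rintro b' hb' hg'
    exact hcon (trans_conj hb' hg')
  have hb0 : ¬ ∃ g : G, g * φ τ * g⁻¹ = φ b := by
    rintro ⟨g₁, hg₁⟩
    have : (g⁻¹ * g₁) * φ τ * (g⁻¹ * g₁)⁻¹ = φ ζ := by
      calc (g⁻¹ * g₁) * φ τ * (g⁻¹ * g₁)⁻¹ = g⁻¹ * (g₁ * φ τ * g₁⁻¹) * g := by group
        _ = φ ζ := by rw [hg₁, ← hg]; group
    exact h.τζ_ne _ this
  have ht1 : g * φ τ * g⁻¹ ≠ 1 := by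
    intro he
    have := mul_inv_eq_one.1 he
    rw [mul_eq_left] at this
    exact τ_ne (h.inj (by rw [this, map_one]))
  have h3 : g * φ τ * g⁻¹ = φ τ := by
    rcases E_elts h2 with h4 | h4 | h4 | h4 | h4 | h4 | h4 | h4
    · exact absurd h4 ht1
    · exact h4
    · exact absurd h4 (h.τζ_ne g)
    · exact absurd h4 (h.τ_τζ_ne g)
    · exfalso
      rcases hb with rfl | rfl
      · exact hb0 ⟨g, h4⟩
      · exact hcon ⟨g, by rw [h4]; rfl⟩
    · exfalso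
      rcases hb with rfl | rfl
      · exact hb' _ (by decide) ⟨g, h4⟩
      · exact hb'' _ (by decide) ⟨g, h4⟩
    · exfalso
      rcases hb with rfl | rfl
      · exact hcon ⟨g, h4⟩
      · exact hb0 ⟨g, h4⟩
    · exfalso
      rcases hb with rfl | rfl
      · exact hb'' _ (by decide) ⟨g, h4⟩
      · exact hb' _ (by decide) ⟨g, h4⟩
  have h4 : g * φ τ = φ τ * g := by
    calc g * φ τ = (g * φ τ * g⁻¹) * g := by group
      _ = φ τ * g := by rw [h3]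
  obtain ⟨c, rfl⟩ := h.cent_t g h4
  have h5 : c * ζ * c⁻¹ = b := h.inj (by rw [map_mul, map_mul, map_inv]; exact hg)
  rcases hb with rfl | rfl
  · exact (not_conj_α c).1 h5
  · exact (not_conj_α c).2 h5

end Hyp

end Cfsg.Agent.H314.S6Fus
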