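import Cfsg.Agent.H314.S6Trans
import Cfsg.Agent.Classification.DihStructure

/-!
# The subgroup of index two (helper314)
-/

set_option autoImplicit false

namespace Cfsg.Agent.H314.S6Fus

open Subgroup Cfsg.Agent.H314.S6Model
open Cfsg.Agent.Classification.DihedralCentral

variable {G : Type*} [Group G]

section model

open Equiv

/-- the dihedral group of order 8 in `S₄` -/
def dihFun : DihedralGroup 4 → Perm (Fin 4)
  | .r i => (swap 0 2 * swap 2 1 * swap 1 3 : Perm (Fin 4)) ^ i.val
  | .sr i => swap 0 1 * (swap 0 2 * swap 2 1 * swap 1 3 : Perm (Fin 4)) ^ i.val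

theorem dihFun_mul : ∀ a b, dihFun (a * b) = dihFun a * dihFun b := by decide

theorem dihFun_inj : ∀ a, dihFun a = 1 → a = 1 := by decide

theorem dihFun_comm : ∀ a, dihFun a * (swap 0 1 * swap 2 3) = (swap 0 1 * swap 2 3) * dihFun a := by decide

/-- the dihedral group of order 8 in `S₄` -/
def dih : DihedralGroup 4 →* Perm (Fin 4) where
  toFun := dihFun
  map_one' := by decide
  map_mul' := dihFun_mul

theorem dih_inj : Function.Injective dih := by
  rw [injective_iff_map_eq_one]
  exact dihFun_inj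

theorem card_D : Nat.card (centralizer ({swap 0 1 * swap 2 3} : Set (Perm (Fin 4)))) = 8 := by
  have h : Fintype.card {q : Perm (Fin 4) // q * (swap 0 1 * swap 2 3) = (swap 0 1 * swap 2 3) * q} = 8 := by decide
  rw [← h, ← Nat.card_eq_fintype_card]
  apply Nat.card_congr
  exact Equiv.subtypeEquivRight fun q => Subgroup.mem_centralizer_singleton_iff

theorem dih_range : dih.range = centralizer ({swap 0 1 * swap 2 3} : Set (Perm (Fin 4))) := by
  apply Subgroup.eq_of_le_of_card_ge
  · rintro _ ⟨a, rfl⟩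
    exact mem_centralizer_singleton_iff.2 (dihFun_comm a)
  · rw [card_D, ← Nat.card_congr (MonoidHom.ofInjective dih_inj).toEquiv, Nat.card_eq_fintype_card]
    decide

theorem snd_one : ∀ q : Q, q.2 = 1 → q = 1 ∨ q = τ := by decide

end model

namespace Hyp

variable {φ : Q →* G} (h : Hyp φ)
include h

/-- an order 8 subgroup of `T` avoiding `t` is dihedral -/
theorem dihedral [Finite G] {A : Subgroup G} (hA : A ≤ centralizer ({φ ζ} : Set G)) (ht : φ τ ∉ A)
    (h8 : Nat.card A = 8) : Nonempty (A ≃* DihedralGroup 4) := by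
  have hAr : A ≤ φ.range := fun x hx => by
    obtain ⟨q, -, hq⟩ := h.mem_T.1 (hA hx)
    exact ⟨q, hq⟩
  let p : A →* Equiv.Perm (Fin 4) :=
    ((MonoidHom.snd _ _).comp (MonoidHom.ofInjective h.inj).symm.toMonoidHom).comp (Subgroup.inclusion hAr)
  have hp : ∀ (x : A) (q : Q), φ q = x → p x = q.2 := by
    intro x q hq
    show ((MonoidHom.ofInjective h.inj).symm (Subgroup.inclusion hAr x)).2 = q.2
    have : (MonoidHom.ofInjective h.inj).symm (Subgroup.inclusion hAr x) = q := by
      rw [MulEquiv.symm_apply_eq]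
      apply Subtype.ext
      rw [MonoidHom.ofInjective_apply]
      exact hq.symm
    rw [this]
  have hpi : Function.Injective p := by
    rw [injective_iff_map_eq_one]
    intro x hx
    obtain ⟨q, -, hq⟩ := h.mem_T.1 (hA x.2)
    rw [hp x q hq] at hx
    rcases snd_one q hx with rfl | rfl
    · rw [map_one] at hq
      exact Subtype.ext hq.symm
    · exact absurd (hq ▸ x.2) ht
  have hpr : p.range = dih.range := by
    rw [dih_range]
    apply Subgroup.eq_of_le_of_card_ge
    · rintro _ ⟨x, rfl⟩
      obtain ⟨q, hqz, hq⟩ := h.mem_T.1 (hA x.2)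
      rw [hp x q hq, mem_centralizer_singleton_iff]
      exact congrArg Prod.snd hqz
    · rw [card_D, ← Nat.card_congr (MonoidHom.ofInjective hpi).toEquiv, h8]
  exact ⟨(MonoidHom.ofInjective hpi).trans ((MulEquiv.subgroupCongr hpr).trans (MonoidHom.ofInjective dih_inj).symm)⟩

theorem card_G [Finite G] : ∃ m, Odd m ∧ Nat.card G = 16 * m := by
  obtain ⟨P, hP⟩ := h.syl
  refine ⟨(P : Subgroup G).index, ?_, ?_⟩
  · rw [← Nat.not_even_iff_odd, even_iff_two_dvd]
    exact P.not_dvd_index
  · have h1 := Subgroup.card_mul_index (P : Subgroup G)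
    have h2 : Nat.card (P : Subgroup G) = 16 := by rw [hP, h.card_T]
    rw [h2] at h1
    exact h1.symm

/-- the index two subgroup meets `T` in a group of order 8 -/
theorem card_ker [Finite G] {f : G →* ℤˣ} (hf : f (φ τ) = -1) :
    Nat.card (centralizer ({φ ζ} : Set G) ⊓ f.ker : Subgroup G) = 8 := by
  set g : centralizer ({φ ζ} : Set G) →* ℤˣ := f.comp (centralizer ({φ ζ} : Set G)).subtype with hg
  have htT : φ τ ∈ centralizer ({φ ζ} : Set G) := h.mem_T.2 ⟨τ, by decide, rfl⟩
  have hsurj : Function.Surjective g := by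
    intro u
    rcases Int.units_eq_one_or u with rfl | rfl
    · exact ⟨1, map_one _⟩
    · exact ⟨⟨φ τ, htT⟩, hf⟩
  have h1 : g.ker.index = 2 := by
    rw [Subgroup.index_ker, MonoidHom.range_eq_top.2 hsurj]
    rw [Nat.card_congr Subgroup.topEquiv.toEquiv, Nat.card_eq_fintype_card]
    rfl
  have h2 := Subgroup.index_mul_card g.ker
  rw [h1, h.card_T] at h2
  have h3 : g.ker = f.ker.subgroupOf (centralizer ({φ ζ} : Set G)) := by
    ext x
    rw [MonoidHom.mem_ker, mem_subgroupOf, MonoidHom.mem_ker]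
    rfl
  have h4 : Nat.card (f.ker.subgroupOf (centralizer ({φ ζ} : Set G))) = 8 := by
    rw [← h3]; omega
  rw [← h4, ← card_map_of_injective (centralizer ({φ ζ} : Set G)).subtype_injective, subgroupOf_map_subtype, inf_comm]

theorem card_ker' [Finite G] {f : G →* ℤˣ} (hf : f (φ τ) = -1) : ∃ m, Odd m ∧ Nat.card f.ker = 8 * m := by
  obtain ⟨m, hm, hG⟩ := h.card_G
  refine ⟨m, hm, ?_⟩
  have hsurj : Function.Surjective f := by
    intro u
    rcases Int.units_eq_one_or u with rfl | rfl
    · exact ⟨1, map_one _⟩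
    · exact ⟨_, hf⟩
  have h1 : f.ker.index = 2 := by
    rw [Subgroup.index_ker, MonoidHom.range_eq_top.2 hsurj]
    rw [Nat.card_congr Subgroup.topEquiv.toEquiv, Nat.card_eq_fintype_card]
    rfl
  have h2 := Subgroup.index_mul_card f.ker
  rw [h1, hG] at h2
  omega

theorem subDihedral [Finite G] {f : G →* ℤˣ} (hf : f (φ τ) = -1) : SubDihedral f.ker := by
  have : Fact (Nat.Prime 2) := ⟨Nat.prime_two⟩
  set D := (centralizer ({φ ζ} : Set G) ⊓ f.ker).subgroupOf f.ker with hD
  have hDc : Nat.card D = 8 := by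
    rw [← h.card_ker hf, ← card_map_of_injective f.ker.subtype_injective, hD, subgroupOf_map_subtype, inf_assoc, inf_idem]
  obtain ⟨m, hm, hK⟩ := h.card_ker' hf
  have h8 : Nat.card D = 2 ^ (Nat.card f.ker).factorization 2 := by
    rw [hDc, hK]
    have h2 : (8 * m).factorization 2 = 3 := by
      have hm0 : m ≠ 0 := by rintro rfl; exact absurd hm (by decide)
      rw [show 8 * m = 2 ^ 3 * m by norm_num, Nat.factorization_mul (by norm_num) hm0, Nat.factorization_pow]
      have h3 : m.factorization 2 = 0 := Nat.factorization_eq_zero_of_not_dvd (fun hd => by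
        rw [← even_iff_two_dvd] at hd
        exact (Nat.not_even_iff_odd.2 hm) hd)
      simp [Nat.prime_two.factorization, h3]
    rw [h2]; norm_num
  let P : Sylow 2 f.ker := Sylow.ofCard D h8
  have hP : (P : Subgroup f.ker) = D := rfl
  have hle : D.map f.ker.subtype ≤ centralizer ({φ ζ} : Set G) := by
    rw [hD, subgroupOf_map_subtype]
    exact inf_le_left.trans inf_le_left
  have hc8 : Nat.card (D.map f.ker.subtype) = 8 := by rw [card_map_of_injective f.ker.subtype_injective, hDc]
  have htm : φ τ ∉ D.map f.ker.subtype := by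
    rintro ⟨x, -, hx⟩
    have hx' : (x : G) = φ τ := hx
    have := x.2
    rw [MonoidHom.mem_ker, hx', hf] at this
    exact absurd this (by decide)
  obtain ⟨e⟩ := h.dihedral hle htm hc8
  refine subDihedral_of_sylow P 4 ?_
  exact ((Subgroup.equivMapOfInjective D _ f.ker.subtype_injective).trans e)

theorem oddCore_eq_bot [Finite G] : Cfsg.oddCore G = ⊥ := by
  apply h.odd_normal_eq_bot (pPrimeCore_normal 2 G)
  have := Cfsg.Agent.Lib.Cores.pPrimeCore_coprime (G := G) 2
  exact Nat.coprime_two_right.1 this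

theorem oddCore_ker [Finite G] (f : G →* ℤˣ) : Cfsg.oddCore f.ker = ⊥ := by
  have h1 := Cfsg.Agent.Lib.Cores.map_subtype_pPrimeCore (G := G) 2 (N := f.ker) inferInstance
  have h2 : Cfsg.pPrimeCore 2 G = ⊥ := h.oddCore_eq_bot
  rw [h2, inf_bot_eq] at h1
  exact (Subgroup.map_eq_bot_iff_of_injective _ f.ker.subtype_injective).1 h1

end Hyp

end Cfsg.Agent.H314.S6Fus
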