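import Mathlib

/-!
# The group `Z₂ × S₄`: finite checks (helper314)
-/

set_option autoImplicit false

namespace Cfsg.Agent.H314.S6Model

open Equiv Equiv.Perm

/-- `Z₂ × S₄` -/
abbrev Q : Type := Multiplicative (ZMod 2) × Perm (Fin 4)

/-- the central involution -/
def τ : Q := (Multiplicative.ofAdd 1, 1)
/-- `(01)(23)` -/
def ζ : Q := (1, swap 0 1 * swap 2 3)
/-- `(02)(13)` -/
def ζ₁ : Q := (1, swap 0 2 * swap 1 3)
/-- `(03)(12)` -/
def ζ₂ : Q := (1, swap 0 3 * swap 1 2)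
/-- `(01)` -/
def α : Q := (1, swap 0 1)
/-- `(23)` -/
def α' : Q := (1, swap 2 3)
/-- an element of order three -/
def ρ : Q := (1, swap 0 1 * swap 1 2)

theorem central_cases : ∀ q : Q, q * (1, swap 0 1 * swap 1 2 * swap 2 3) = (1, swap 0 1 * swap 1 2 * swap 2 3) * q →
    q * α = α * q → q = 1 ∨ q = τ := by
  decide

theorem τ_comm : ∀ q : Q, q * τ = τ * q := by decide
theorem τ_sq : τ * τ = 1 := by decide
theorem ζ_sq : ζ * ζ = 1 := by decide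
theorem τ_ne : τ ≠ 1 := by decide
theorem ζ_ne : ζ ≠ 1 := by decide
theorem ρ_cube : ρ * ρ * ρ = 1 := by decide
theorem ρ_ne : ρ ≠ 1 := by decide

/-- centralizers as decidable conditions -/
theorem E_le_T : ∀ q : Q, q * α = α * q → q * ζ = ζ * q := by decide

theorem E_cases : ∀ q : Q, q * α = α * q → q = 1 ∨ q = τ ∨ q = ζ ∨ q = τ * ζ ∨ q = α ∨ q = α' ∨ q = τ * α ∨ q = τ * α' := by
  decide

theorem T_sq_cases : ∀ q : Q, q * ζ = ζ * q → q * q = 1 → q * α = α * q ∨ q * ζ₁ = ζ₁ * q := by decide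

theorem T_comm : ∀ p : Q, p * ζ = ζ * p → ∀ q : Q, q * ζ = ζ * q → p * q = q * p ∨ p * q = q * p * ζ := by decide

theorem T_comm' : α * ζ₁ = ζ₁ * α * ζ := by decide

theorem E_sq : ∀ q : Q, q * α = α * q → q * q = 1 := by decide

theorem W_sq : ∀ q : Q, q * ζ = ζ * q → q * ζ₁ = ζ₁ * q → q * q = 1 := by decide

theorem W_cases : ∀ q : Q, q * ζ = ζ * q → q * ζ₁ = ζ₁ * q → q = 1 ∨ q = τ ∨ q = ζ ∨ q = ζ₁ ∨ q = ζ₂ ∨ q = τ * ζ ∨ q = τ * ζ₁ ∨ q = τ * ζ₂ := by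
  decide

theorem conj_ζ₁ : ∃ c : Q, c * ζ = ζ₁ * c := by decide
theorem conj_ζ₂ : ∃ c : Q, c * ζ = ζ₂ * c := by decide
theorem conj_α' : ζ₁ * α = α' * ζ₁ := by decide

/-- `W` is normal -/
theorem W_normal_aux : ∀ c : Q, (c⁻¹ * ζ * c = ζ ∨ c⁻¹ * ζ * c = ζ₁ ∨ c⁻¹ * ζ * c = ζ * ζ₁) ∧
    (c⁻¹ * ζ₁ * c = ζ ∨ c⁻¹ * ζ₁ * c = ζ₁ ∨ c⁻¹ * ζ₁ * c = ζ * ζ₁) := by
  decide

theorem α_not_W : ¬ (α * ζ₁ = ζ₁ * α) := by decide
theorem ζ₁_not_E : ¬ (ζ₁ * α = α * ζ₁) := by decide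

theorem not_conj_α : ∀ c : Q, c * ζ * c⁻¹ ≠ α ∧ c * ζ * c⁻¹ ≠ τ * α := by decide
theorem not_conj_α' : ∀ c : Q, c * ζ * c⁻¹ ≠ α' ∧ c * ζ * c⁻¹ ≠ τ * α' := by decide

/-- a sign -/
def ε : Multiplicative (ZMod 2) →* ℤˣ where
  toFun x := if x = Multiplicative.ofAdd 0 then 1 else -1
  map_one' := by decide
  map_mul' := by decide

/-- first sign character -/
def χ₁ : Q →* ℤˣ := ε.comp (MonoidHom.fst _ _)
/-- second sign character -/
def χ₂ : Q →* ℤˣ := χ₁ * (Perm.sign.comp (MonoidHom.snd _ _))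

theorem χ₁_τ : χ₁ τ = -1 := by decide
theorem χ₂_τ : χ₂ τ = -1 := by decide
theorem χ₁_α : χ₁ α = 1 := by decide
theorem χ₂_α : χ₂ α = -1 := by decide
theorem χ₁_ζ : χ₁ ζ = 1 ∧ χ₁ ζ₁ = 1 ∧ χ₁ ζ₂ = 1 := by decide
theorem χ₂_ζ : χ₂ ζ = 1 ∧ χ₂ ζ₁ = 1 ∧ χ₂ ζ₂ = 1 := by decide
theorem χ₁_α' : χ₁ α' = 1 := by decide
theorem χ₂_α' : χ₂ α' = -1 := by decide

theorem α_conj_not_W : ∀ c : Q, (c * α * c⁻¹) * ζ = ζ * (c * α * c⁻¹) → (c * α * c⁻¹) * ζ₁ = ζ₁ * (c * α * c⁻¹) → False := by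
  decide

theorem conj_τα' : ζ₁ * (τ * α) = (τ * α') * ζ₁ := by decide

/-- the involutions of the four-group -/
def isV (x : Q) : Bool := decide (x = ζ) || decide (x = ζ₁) || decide (x = ζ₂)

theorem isV_iff {x : Q} (hx : isV x = true) : x = ζ ∨ x = ζ₁ ∨ x = ζ₂ := by
  unfold isV at hx
  simp only [Bool.or_eq_true, decide_eq_true_eq] at hx
  tauto

theorem comm_V_aux : ∀ q : Q, q = 1 ∨ q = τ ∨ isV (q * ζ * q⁻¹ * ζ⁻¹) = true ∨ isV (q * ζ₁ * q⁻¹ * ζ₁⁻¹) = true ∨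
    isV (q * ρ * q⁻¹ * ρ⁻¹) = true := by
  decide

/-- a nontrivial normal subgroup avoiding `τ` contains the four-group -/
theorem comm_V (q : Q) (h1 : q ≠ 1) (h2 : q ≠ τ) : ∃ c : Q, q * c * q⁻¹ * c⁻¹ = ζ ∨ q * c * q⁻¹ * c⁻¹ = ζ₁ ∨ q * c * q⁻¹ * c⁻¹ = ζ₂ := by
  rcases comm_V_aux q with h | h | h | h | h
  · exact absurd h h1
  · exact absurd h h2
  · exact ⟨_, isV_iff h⟩
  · exact ⟨_, isV_iff h⟩
  · exact ⟨_, isV_iff h⟩

/-- the elements `τ` and the conjugates of `τ α` -/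
def listA : List Q := [τ, τ * α, τ * α', (Multiplicative.ofAdd 1, swap 0 2), (Multiplicative.ofAdd 1, swap 1 3),
  (Multiplicative.ofAdd 1, swap 0 3), (Multiplicative.ofAdd 1, swap 1 2)]
/-- the elements `τ` and the conjugates of `α` -/
def listB : List Q := [τ, α, α', (1, swap 0 2), (1, swap 1 3), (1, swap 0 3), (1, swap 1 2)]

theorem listA_nodup : listA.Nodup := by decide
theorem listB_nodup : listB.Nodup := by decide
theorem listA_conj : ∀ q ∈ listA, q = τ ∨ ∃ c : Q, c * q = (τ * α) * c := by decide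
theorem listB_conj : ∀ q ∈ listB, q = τ ∨ ∃ c : Q, c * q = α * c := by decide

theorem ζ₁_sq : ζ₁ * ζ₁ = 1 := by decide
theorem ζ₁_ne : ζ₁ ≠ 1 := by decide
theorem ζ₁_ne_ζ : ζ₁ ≠ ζ := by decide
theorem ζ₂_eq : ζ₂ = ζ * ζ₁ := by decide
theorem ζζ₁ : ζ * ζ₁ = ζ₁ * ζ := by decide

theorem card_Q : Nat.card Q = 48 := by
  rw [Nat.card_eq_fintype_card]; decide

theorem card_T : Nat.card (Subgroup.centralizer ({ζ} : Set Q)) = 16 := by
  have h : Fintype.card {q : Q // q * ζ = ζ * q} = 16 := by decide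
  rw [← h, ← Nat.card_eq_fintype_card]
  apply Nat.card_congr
  exact Equiv.subtypeEquivRight fun q => Subgroup.mem_centralizer_singleton_iff

theorem card_E : Nat.card (Subgroup.centralizer ({α} : Set Q)) = 8 := by
  have h : Fintype.card {q : Q // q * α = α * q} = 8 := by decide
  rw [← h, ← Nat.card_eq_fintype_card]
  apply Nat.card_congr
  exact Equiv.subtypeEquivRight fun q => Subgroup.mem_centralizer_singleton_iff

theorem card_W : Nat.card (Subgroup.centralizer ({ζ, ζ₁} : Set Q)) = 8 := by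
  have h : Fintype.card {q : Q // q * ζ = ζ * q ∧ q * ζ₁ = ζ₁ * q} = 8 := by decide
  rw [← h, ← Nat.card_eq_fintype_card]
  apply Nat.card_congr
  refine Equiv.subtypeEquivRight fun q => ?_
  rw [Subgroup.mem_centralizer_iff]
  constructor
  · intro hq
    exact ⟨(hq ζ (by simp)).symm, (hq ζ₁ (by simp)).symm⟩
  · rintro ⟨h1, h2⟩ y hy
    rcases hy with rfl | hy
    · exact h1.symm
    · rw [Set.mem_singleton_iff] at hy; rw [hy]; exact h2.symm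

theorem card_M₁ : Nat.card (Subgroup.centralizer ({ζ} : Set Q) ⊓ χ₁.ker : Subgroup Q) = 8 := by
  have h : Fintype.card {q : Q // q * ζ = ζ * q ∧ χ₁ q = 1} = 8 := by decide
  rw [← h, ← Nat.card_eq_fintype_card]
  apply Nat.card_congr
  refine Equiv.subtypeEquivRight fun q => ?_
  rw [Subgroup.mem_inf, Subgroup.mem_centralizer_singleton_iff, MonoidHom.mem_ker]

theorem card_M₂ : Nat.card (Subgroup.centralizer ({ζ} : Set Q) ⊓ χ₂.ker : Subgroup Q) = 8 := by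
  have h : Fintype.card {q : Q // q * ζ = ζ * q ∧ χ₂ q = 1} = 8 := by decide
  rw [← h, ← Nat.card_eq_fintype_card]
  apply Nat.card_congr
  refine Equiv.subtypeEquivRight fun q => ?_
  rw [Subgroup.mem_inf, Subgroup.mem_centralizer_singleton_iff, MonoidHom.mem_ker]

set_option synthInstance.maxSize 2000 in
set_option synthInstance.maxHeartbeats 200000 in
theorem M₁_cases : ∀ q : Q, q * ζ = ζ * q → χ₁ q = 1 → q * q = 1 → q = 1 ∨ q = ζ ∨ q = ζ₁ ∨ q = ζ₂ ∨ q = α ∨ q = α' := by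
  decide

set_option synthInstance.maxSize 2000 in
set_option synthInstance.maxHeartbeats 200000 in
theorem M₂_cases : ∀ q : Q, q * ζ = ζ * q → χ₂ q = 1 → q * q = 1 → q = 1 ∨ q = ζ ∨ q = ζ₁ ∨ q = ζ₂ ∨ q = τ * α ∨ q = τ * α' := by
  decide

theorem V_cases : ∀ q : Q, q * ζ = ζ * q → q * ζ₁ = ζ₁ * q → χ₁ q = 1 → q = 1 ∨ q = ζ ∨ q = ζ₁ ∨ q = ζ₂ := by decide

theorem mem_W {q : Q} : q ∈ Subgroup.centralizer ({ζ, ζ₁} : Set Q) ↔ q * ζ = ζ * q ∧ q * ζ₁ = ζ₁ * q := by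
  rw [Subgroup.mem_centralizer_iff]
  constructor
  · intro hq
    exact ⟨(hq ζ (by simp)).symm, (hq ζ₁ (by simp)).symm⟩
  · rintro ⟨h1, h2⟩ y hy
    rcases hy with rfl | hy
    · exact h1.symm
    · rw [Set.mem_singleton_iff] at hy; rw [hy]; exact h2.symm

theorem card_V : Nat.card (Subgroup.centralizer ({ζ, ζ₁} : Set Q) ⊓ χ₁.ker : Subgroup Q) = 4 := by
  have h : Fintype.card {q : Q // (q * ζ = ζ * q ∧ q * ζ₁ = ζ₁ * q) ∧ χ₁ q = 1} = 4 := by decide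
  refine Eq.trans ?_ h
  rw [← Nat.card_eq_fintype_card]
  apply Nat.card_congr
  refine Equiv.subtypeEquivRight fun q => ?_
  rw [Subgroup.mem_inf, mem_W, MonoidHom.mem_ker]

theorem τατα : (τ * α) * (τ * α) = 1 := by decide
theorem αα : α * α = 1 := by decide
theorem ατ : τ * (τ * α) = α := by decide
theorem α_ne : α ≠ 1 := by decide
theorem τα_ne : τ * α ≠ 1 := by decide
theorem τα_E : (τ * α) * α = α * (τ * α) := by decide
theorem τα_noncomm : (τ * α) * ζ₁ = ζ₁ * (τ * α) * ζ := by decide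

end Cfsg.Agent.H314.S6Model
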