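import Cfsg.Agent.H314.S6Index
import Cfsg.Agent.Classification.DihStructure

/-!
# The simple normal subgroup (helper314)
-/

set_option autoImplicit false
set_option linter.style.haveILetI false

namespace Cfsg.Agent.H314.S6Fus

open Subgroup Cfsg.Agent.H314.S6Model
open Cfsg.Agent.Classification.DihedralCentral Cfsg.Agent.Classification.DihReduction
open Cfsg.Agent.Classification.DihStructure

universe u

variable {G : Type u} [Group G]

/-- the conclusion: a simple normal subgroup with trivial centralizer -/
structure Simp (φ : Q →* G) (M : Subgroup G) : Prop where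
  normal : M.Normal
  simple : IsSimpleGroup M
  cent : centralizer (M : Set G) = ⊥
  t_not : φ τ ∉ M
  four : 4 ∣ Nat.card M
  le : ∀ m, Odd m → Nat.card G = 16 * m → Nat.card M ∣ 8 * m

/-- A normal simple subgroup with trivial centralizer is invariant under automorphisms. -/
theorem map_eq_of_simple {K : Type u} [Group K] [Finite K] {L : Subgroup K} (hn : L.Normal) (hs : IsSimpleGroup L)
    (hc : centralizer (L : Set K) = ⊥) (c : MulAut K) : L.map c.toMonoidHom = L := by
  have hn' : (L.map c.toMonoidHom).Normal := hn.map _ c.surjective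
  have hcard : Nat.card (L.map c.toMonoidHom) = Nat.card L := card_map_of_injective c.injective
  have hne : L ≠ ⊥ := by
    intro he
    have := hs.toNontrivial
    rw [he] at this
    exact not_nontrivial_iff_subsingleton.2 (inferInstance : Subsingleton (⊥ : Subgroup K)) this
  have h1 : ((L.map c.toMonoidHom).subgroupOf L).Normal := hn'.subgroupOf L
  rcases hs.eq_bot_or_eq_top_of_normal _ h1 with h2 | h2
  · exfalso
    have h3 : L.map c.toMonoidHom ⊓ L = ⊥ := by
      rw [← subgroupOf_map_subtype, h2, Subgroup.map_bot]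
    have h4 : L.map c.toMonoidHom ≤ centralizer (L : Set K) := by
      intro x hx
      rw [mem_centralizer_iff]
      intro y hy
      have h5 : x * y * x⁻¹ * y⁻¹ ∈ L.map c.toMonoidHom ⊓ L := by
        refine mem_inf.2 ⟨?_, ?_⟩
        · have : x * y * x⁻¹ * y⁻¹ = x * (y * x⁻¹ * y⁻¹) := by group
          rw [this]
          exact mul_mem hx (hn'.conj_mem _ (inv_mem hx) y)
        · exact mul_mem (hn.conj_mem _ hy x) (inv_mem hy)
      rw [h3, mem_bot] at h5
      calc y * x = (x * y * x⁻¹ * y⁻¹)⁻¹ * x * y := by group
        _ = x * y := by rw [h5]; group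
    rw [hc, le_bot_iff] at h4
    rw [h4] at hcard
    rw [Subgroup.card_bot] at hcard
    exact hne (Subgroup.eq_bot_of_card_eq _ hcard.symm)
  · rw [subgroupOf_eq_top] at h2
    exact (Subgroup.eq_of_le_of_card_ge h2 hcard.le).symm

theorem trans_normal {K : Subgroup G} [hK : K.Normal] {L : Subgroup K} [Finite G] (hn : L.Normal) (hs : IsSimpleGroup L)
    (hc : centralizer (L : Set K) = ⊥) : (L.map K.subtype).Normal := by
  refine ⟨fun x hx g => ?_⟩
  obtain ⟨y, hy, rfl⟩ := hx
  have h1 := map_eq_of_simple hn hs hc (MulAut.conjNormal g)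
  have h2 : (MulAut.conjNormal g : MulAut K) y ∈ L := by
    rw [← h1]; exact ⟨y, hy, rfl⟩
  exact ⟨_, h2, MulAut.conjNormal_apply g y⟩

namespace Hyp

variable {φ : Q →* G} (h : Hyp φ)
include h

omit h in
theorem f_ρ (f : G →* ℤˣ) : f (φ ρ) = 1 := by
  have h1 : f (φ ρ) * f (φ ρ) * f (φ ρ) = 1 := by
    rw [← map_mul, ← map_mul, ← map_mul, ← map_mul, ρ_cube, map_one, map_one]
  rcases Int.units_eq_one_or (f (φ ρ)) with h2 | h2
  · exact h2
  · rw [h2] at h1
    exact absurd h1 (by decide)

/-- **structure** -/
theorem structure_G [Finite G] (hFT : OddOrder.{u}) : (∀ g, g * φ τ = φ τ * g) ∨ ∃ M : Subgroup G, Simp φ M := by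
  obtain ⟨f, hf⟩ := h.exists_sign
  obtain ⟨m, hm, hG⟩ := h.card_G
  have hsurj : Function.Surjective f := by
    intro u
    rcases Int.units_eq_one_or u with rfl | rfl
    · exact ⟨1, map_one _⟩
    · exact ⟨_, hf⟩
  have hidx : f.ker.index = 2 := by
    rw [Subgroup.index_ker, MonoidHom.range_eq_top.2 hsurj]
    rw [Nat.card_congr Subgroup.topEquiv.toEquiv, Nat.card_eq_fintype_card]
    rfl
  have hK : Nat.card f.ker = 8 * m := by
    have h2 := Subgroup.index_mul_card f.ker
    rw [hidx, hG] at h2
    omega
  -- if `|G| = 48`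
  have h48 : Nat.card G = 48 → ∀ g, g * φ τ = φ τ * g := by
    intro hc g
    have h1 : centralizer ({φ τ} : Set G) = ⊤ := Subgroup.eq_top_of_card_eq _ (by rw [h.card_C, hc])
    have h2 : g ∈ centralizer ({φ τ} : Set G) := by rw [h1]; trivial
    exact mem_centralizer_singleton_iff.1 h2
  rcases structure_of_core_free hFT (h.subDihedral hf) (h.oddCore_ker f) with h1 | ⟨V, hV, hVk, -, hVi⟩ | ⟨L, hLn, hLs, hLc, hLi, -⟩
  · exfalso
    obtain ⟨k, hk⟩ := h1 ⟨φ ρ, f_ρ f⟩
    have h2 : φ ρ ^ 2 ^ k = 1 := congrArg Subtype.val hk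
    have h3 : orderOf (φ ρ) ∣ 2 ^ k := orderOf_dvd_of_pow_eq_one h2
    have h4 : orderOf (φ ρ) ∣ 3 := by
      apply orderOf_dvd_of_pow_eq_one
      rw [← map_pow, show ρ ^ 3 = ρ * ρ * ρ by rw [pow_succ, pow_two], ρ_cube, map_one]
    have h5 : orderOf (φ ρ) ∣ 1 := by
      have := Nat.dvd_gcd h3 h4
      rwa [Nat.Coprime.gcd_eq_one (Nat.Coprime.pow_left k (by norm_num))] at this
    have h6 := orderOf_eq_one_iff.1 (Nat.dvd_one.1 h5)
    exact ρ_ne (h.inj (by rw [h6, map_one]))
  · left
    apply h48
    have h2 := Subgroup.index_mul_card V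
    have h3 : Nat.card V = 4 := hVk.card_four
    rw [h3, hK] at h2
    rcases hVi with h4 | h4
    · rw [h4] at h2; omega
    · rw [h4] at h2; omega
  · -- the simple case
    set M : Subgroup G := L.map f.ker.subtype with hM
    have hMn : M.Normal := trans_normal hLn hLs hLc
    have hMK : M ≤ f.ker := map_subtype_le _
    by_cases hC : centralizer (M : Set G) = ⊥
    · right
      refine ⟨M, hMn, ?_, hC, ?_, ?_, ?_⟩
      · let e : L ≃* M := Subgroup.equivMapOfInjective L _ f.ker.subtype_injective
        exact MulEquiv.isSimpleGroup e.symm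
      · intro ht
        have := hMK ht
        rw [MonoidHom.mem_ker, hf] at this
        exact absurd this (by decide)
      · have h1 : Nat.card M = Nat.card L := card_map_of_injective f.ker.subtype_injective
        rw [h1]
        have h2 := Subgroup.index_mul_card L
        rw [hK] at h2
        by_contra h4
        have h5 : 4 ∣ L.index * Nat.card L := by rw [h2]; omega
        -- `8 ∣ index * card`
        have h6 : 8 ∣ L.index * Nat.card L := by rw [h2]; exact dvd_mul_right 8 m
        have e1 : (2 : ℕ) ^ 3 ∣ L.index * Nat.card L := by norm_num; exact h6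
        have hp : Nat.Prime 2 := Nat.prime_two
        obtain ⟨a, b, ha, hb, hab⟩ : ∃ a b, a ∣ L.index ∧ b ∣ Nat.card L ∧ a * b = 8 := by
          obtain ⟨a, b, ha, hb, hab⟩ := (Nat.dvd_mul).1 h6
          exact ⟨a, b, ha, hb, hab⟩
        have ha8 : a ∣ 8 := ⟨b, hab.symm⟩
        have : a ≤ 8 := Nat.le_of_dvd (by norm_num) ha8
        interval_cases a
        · omega
        · have : b = 8 := by omega
          subst this
          exact h4 (dvd_trans (by norm_num) hb)
        · have : b = 4 := by omega
          subst this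
          exact h4 hb
        · omega
        · exact hLi ha
        · omega
        · omega
        · omega
        · exact hLi (dvd_trans (by norm_num) ha)
      · intro m' hm' hG'
        have : m' = m := by omega
        rw [this, ← hK]
        exact Subgroup.card_dvd_of_le hMK
    · left
      -- `C(M)` meets `K` trivially
      have hCK : centralizer (M : Set G) ⊓ f.ker = ⊥ := by
        rw [Subgroup.eq_bot_iff_forall]
        rintro x hx
        have hxK := (mem_inf.1 hx).2
        have h1 : (⟨x, hxK⟩ : f.ker) ∈ centralizer (L : Set f.ker) := by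
          rw [mem_centralizer_iff]
          intro y hy
          apply Subtype.ext
          exact mem_centralizer_iff.1 (mem_inf.1 hx).1 y ⟨y, hy, rfl⟩
        rw [hLc, mem_bot] at h1
        exact congrArg Subtype.val h1
      have hCn : (centralizer (M : Set G)).Normal := by
        haveI := hMn
        exact Subgroup.normal_centralizer
      obtain ⟨u, hu, hu1⟩ : ∃ u ∈ centralizer (M : Set G), u ≠ 1 := by
        by_contra hcon
        push Not at hcon
        exact hC ((Subgroup.eq_bot_iff_forall _).2 hcon)
      have hcent : ∀ g, g * u = u * g := by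
        intro g
        have h1 : g * u * g⁻¹ * u⁻¹ ∈ centralizer (M : Set G) ⊓ f.ker := by
          refine mem_inf.2 ⟨mul_mem (hCn.conj_mem _ hu g) (inv_mem hu), ?_⟩
          rw [MonoidHom.mem_ker, map_mul, map_mul, map_mul, map_inv, map_inv, mul_comm (f g), mul_assoc (f u), mul_inv_cancel,
            mul_one, mul_inv_cancel]
        rw [hCK, mem_bot] at h1
        calc g * u = (g * u * g⁻¹ * u⁻¹) * u * g := by group
          _ = u * g := by rw [h1, one_mul]
      obtain ⟨q, rfl⟩ := h.cent_t u (hcent _).symm
      have h1 : q = 1 ∨ q = τ := by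
        apply central_cases
        · exact (h.comm_iff _ _).1 (hcent _).symm
        · exact (h.comm_iff _ _).1 (hcent _).symm
      rcases h1 with rfl | rfl
      · exact absurd (map_one φ) hu1
      · exact hcent

end Hyp

end Cfsg.Agent.H314.S6Fus
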