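import Cfsg.Agent.H314.S6Fus
import Cfsg.Agent.Classification.TransferSign
import Cfsg.Agent.Lib.Cores

/-!
# Transfer and the odd core (helper314)
-/

set_option autoImplicit false

namespace Cfsg.Agent.H314.S6Fus

open Subgroup Cfsg.Agent.H314.S6Model

variable {G : Type*} [Group G]

namespace Hyp

variable {φ : Q →* G} (h : Hyp φ)
include h

theorem card_T [Finite G] : Nat.card (centralizer ({φ ζ} : Set G)) = 16 := by
  have h1 : centralizer ({φ ζ} : Set G) = (centralizer ({ζ} : Set Q)).map φ := by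
    ext g
    rw [h.mem_T, mem_map]
    constructor
    · rintro ⟨q, hq, rfl⟩
      exact ⟨q, mem_centralizer_singleton_iff.2 hq, rfl⟩
    · rintro ⟨q, hq, rfl⟩
      exact ⟨q, mem_centralizer_singleton_iff.1 hq, rfl⟩
  rw [h1, ← S6Model.card_T]
  exact (Nat.card_congr (Subgroup.equivMapOfInjective _ φ h.inj).toEquiv).symm

theorem card_C [Finite G] : Nat.card (centralizer ({φ τ} : Set G)) = 48 := by
  have h1 : centralizer ({φ τ} : Set G) = φ.range := by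
    ext g
    rw [h.mem_C, MonoidHom.mem_range]
  rw [h1, ← card_Q]
  exact (Nat.card_congr (MonoidHom.ofInjective h.inj).toEquiv).symm

theorem order_t : orderOf (φ τ) = 2 := by
  rw [orderOf_injective φ h.inj]
  exact orderOf_eq_prime (by rw [pow_two]; exact τ_sq) τ_ne

theorem order_z : orderOf (φ ζ) = 2 := by
  rw [orderOf_injective φ h.inj]
  exact orderOf_eq_prime (by rw [pow_two]; exact ζ_sq) ζ_ne

theorem sign_aux [Finite G] (χ : Q →* ℤˣ) (hc : Nat.card (centralizer ({ζ} : Set Q) ⊓ χ.ker : Subgroup Q) = 8)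
    (hno : ∀ q : Q, q * ζ = ζ * q → χ q = 1 → q * q = 1 → ∀ g : G, g * φ τ * g⁻¹ ≠ φ q) :
    ∃ f : G →* ℤˣ, f (φ τ) = -1 := by
  obtain ⟨P, hP⟩ := h.syl
  refine Cfsg.Agent.Classification.TransferSign.exists_hom_neg_one P
    ((centralizer ({ζ} : Set Q) ⊓ χ.ker : Subgroup Q).map φ) ?_ ?_ _ h.order_t ?_
  · rintro _ ⟨q, hq, rfl⟩
    rw [hP]
    exact h.mem_T.2 ⟨q, mem_centralizer_singleton_iff.1 hq.1, rfl⟩
  · have hle : (centralizer ({ζ} : Set Q) ⊓ χ.ker : Subgroup Q).map φ ≤ (P : Subgroup G) := by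
      rintro _ ⟨q, hq, rfl⟩
      rw [hP]
      exact h.mem_T.2 ⟨q, mem_centralizer_singleton_iff.1 hq.1, rfl⟩
    have h1 : Nat.card (((centralizer ({ζ} : Set Q) ⊓ χ.ker : Subgroup Q).map φ).subgroupOf (P : Subgroup G)) = 8 := by
      rw [Nat.card_congr (Subgroup.subgroupOfEquivOfLe hle).toEquiv, ← hc]
      exact (Nat.card_congr (Subgroup.equivMapOfInjective _ φ h.inj).toEquiv).symm
    have h2 := Subgroup.index_mul_card (((centralizer ({ζ} : Set Q) ⊓ χ.ker : Subgroup Q).map φ).subgroupOf (P : Subgroup G))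
    have h3 : Nat.card (P : Subgroup G) = 16 := by rw [hP, h.card_T]
    rw [h1, h3] at h2
    show (((centralizer ({ζ} : Set Q) ⊓ χ.ker : Subgroup Q).map φ).subgroupOf (P : Subgroup G)).index = 2
    omega
  · rintro g ⟨q, hq, hg⟩
    have hq1 : q * ζ = ζ * q := mem_centralizer_singleton_iff.1 hq.1
    have hq2 : χ q = 1 := hq.2
    refine hno q hq1 hq2 ?_ g hg.symm
    apply h.inj
    rw [map_mul, hg, map_one]
    calc g * φ τ * g⁻¹ * (g * φ τ * g⁻¹) = g * (φ τ * φ τ) * g⁻¹ := by group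
      _ = 1 := by rw [← map_mul, τ_sq, map_one]; group

theorem one_aux {g : G} (hg : g * φ τ * g⁻¹ = φ 1) : False := by
  rw [map_one] at hg
  have := mul_inv_eq_one.1 hg
  rw [mul_eq_left] at this
  exact τ_ne (h.inj (by rw [this, map_one]))

/-- there is a homomorphism onto `±1` not killing `t` -/
theorem exists_sign [Finite G] : ∃ f : G →* ℤˣ, f (φ τ) = -1 := by
  have hζ : ∀ g : G, g * φ τ * g⁻¹ ≠ φ ζ₁ ∧ g * φ τ * g⁻¹ ≠ φ ζ₂ := by
    intro g
    constructor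
    · intro hg
      obtain ⟨c, hc⟩ := conj_ζ₁
      obtain ⟨g', hg'⟩ := trans_conj hc ⟨g, hg⟩
      exact h.τζ_ne _ hg'
    · intro hg
      obtain ⟨c, hc⟩ := conj_ζ₂
      obtain ⟨g', hg'⟩ := trans_conj hc ⟨g, hg⟩
      exact h.τζ_ne _ hg'
  by_cases h1 : ∃ g : G, g * φ τ * g⁻¹ = φ α
  · have h2 : ¬ ∃ g : G, g * φ τ * g⁻¹ = φ (τ * α) := fun h2 => h.not_both h1 h2
    refine h.sign_aux χ₂ card_M₂ fun q hq hχ hqq g hg => ?_
    rcases M₂_cases q hq hχ hqq with rfl | rfl | rfl | rfl | rfl | rfl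
    · exact h.one_aux hg
    · exact h.τζ_ne g hg
    · exact (hζ g).1 hg
    · exact (hζ g).2 hg
    · exact h2 ⟨g, hg⟩
    · exact h2 (trans_conj conj_τα' ⟨g, hg⟩)
  · refine h.sign_aux χ₁ card_M₁ fun q hq hχ hqq g hg => ?_
    rcases M₁_cases q hq hχ hqq with rfl | rfl | rfl | rfl | rfl | rfl
    · exact h.one_aux hg
    · exact h.τζ_ne g hg
    · exact (hζ g).1 hg
    · exact (hζ g).2 hg
    · exact h1 ⟨g, hg⟩
    · exact h1 (trans_conj conj_α' ⟨g, hg⟩)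

/-- normal subgroups of odd order are trivial -/
theorem odd_normal_eq_bot [Finite G] {W : Subgroup G} (hW : W.Normal) (hodd : Odd (Nat.card W)) : W = ⊥ := by
  have two : ∀ w ∈ W, w * w = 1 → w = 1 := by
    intro w hw hww
    have h1 : orderOf (⟨w, hw⟩ : W) ∣ 2 := orderOf_dvd_of_pow_eq_one (Subtype.ext (by simpa [pow_two] using hww))
    have h2 : orderOf (⟨w, hw⟩ : W) ∣ Nat.card W := orderOf_dvd_natCard _
    have h3 : orderOf (⟨w, hw⟩ : W) ∣ 1 := by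
      have := Nat.dvd_gcd h1 h2
      rwa [Nat.Coprime.gcd_eq_one (Nat.coprime_two_left.2 hodd)] at this
    have h4 : (⟨w, hw⟩ : W) = 1 := by
      rw [← orderOf_eq_one_iff]; exact Nat.dvd_one.1 h3
    exact congrArg Subtype.val h4
  have hzz : φ ζ * φ ζ = 1 := by rw [← map_mul, ζ_sq, map_one]
  -- `C_W(z) = 1`
  have hCW : W ⊓ centralizer {φ ζ} = ⊥ := by
    have h1 : Nat.card (W ⊓ centralizer {φ ζ} : Subgroup G) ∣ 16 := by
      rw [← h.card_T]; exact Subgroup.card_dvd_of_le inf_le_right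
    have h2 : Nat.card (W ⊓ centralizer {φ ζ} : Subgroup G) ∣ Nat.card W := Subgroup.card_dvd_of_le inf_le_left
    have h3 : Nat.Coprime 16 (Nat.card W) := by
      rw [show 16 = 2 ^ 4 by norm_num]
      exact Nat.Coprime.pow_left 4 (Nat.coprime_two_left.2 hodd)
    have h4 := Nat.dvd_gcd h1 h2
    rw [h3.gcd_eq_one] at h4
    exact Subgroup.eq_bot_of_card_eq _ (Nat.dvd_one.1 h4)
  -- `z` inverts `W`
  have hinv : ∀ w ∈ W, φ ζ * w * (φ ζ)⁻¹ = w⁻¹ := by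
    let ψ : W →* W := (MulAut.conjNormal (φ ζ) : MulAut W).toMonoidHom
    have hφ : ∀ w : W, ((ψ w : W) : G) = φ ζ * w * (φ ζ)⁻¹ := fun w => MulAut.conjNormal_apply (φ ζ) w
    have hfix : MonoidHom.FixedPointFree ψ := by
      intro w hw
      have h1 : φ ζ * w * (φ ζ)⁻¹ = w := by rw [← hφ, hw]
      have h2 : (w : G) ∈ W ⊓ centralizer {φ ζ} := Subgroup.mem_inf.2 ⟨w.2, mem_centralizer_singleton_iff.2 <| by
        calc (w : G) * φ ζ = (φ ζ * w * (φ ζ)⁻¹) * φ ζ := by rw [h1]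
          _ = φ ζ * w := by group⟩
      rw [hCW, Subgroup.mem_bot] at h2
      exact Subtype.ext h2
    have hinvol : Function.Involutive ψ := by
      intro w
      apply Subtype.ext
      rw [hφ, hφ]
      calc φ ζ * (φ ζ * (w : G) * (φ ζ)⁻¹) * (φ ζ)⁻¹ = (φ ζ * φ ζ) * w * (φ ζ * φ ζ)⁻¹ := by group
        _ = w := by rw [hzz]; group
    have h3 := hfix.coe_eq_inv_of_involutive hinvol
    intro w hw
    have h4 := congrFun h3 ⟨w, hw⟩
    have h5 := congrArg (Subtype.val) h4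
    rw [hφ] at h5
    exact h5
  -- conjugates of `z` invert `W` as well
  have hinv' : ∀ (c v : Q), c * ζ = v * c → ∀ w ∈ W, φ v * w * (φ v)⁻¹ = w⁻¹ := by
    intro c v hc w hw
    have h1 : (φ c)⁻¹ * w * φ c ∈ W := by
      have := hW.conj_mem w hw (φ c)⁻¹
      rwa [inv_inv] at this
    have h2 := hinv _ h1
    have h3 : φ c * φ ζ = φ v * φ c := by rw [← map_mul, hc, map_mul]
    have h4 : φ v = φ c * φ ζ * (φ c)⁻¹ := by rw [h3]; group
    calc φ v * w * (φ v)⁻¹ = φ c * (φ ζ * ((φ c)⁻¹ * w * φ c) * (φ ζ)⁻¹) * (φ c)⁻¹ := by rw [h4]; group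
      _ = w⁻¹ := by rw [h2]; group
  rw [Subgroup.eq_bot_iff_forall]
  intro w hw
  apply two w hw
  obtain ⟨c₁, hc₁⟩ := conj_ζ₁
  obtain ⟨c₂, hc₂⟩ := conj_ζ₂
  have e0 := hinv w⁻¹ (inv_mem hw)
  have e1 := hinv' c₁ ζ₁ hc₁ w hw
  have e2 := hinv' c₂ ζ₂ hc₂ w hw
  have e3 : φ ζ₂ = φ ζ * φ ζ₁ := by rw [← map_mul]; exact congrArg φ (by decide)
  have e4 : φ ζ₂ * w * (φ ζ₂)⁻¹ = w := by
    calc φ ζ₂ * w * (φ ζ₂)⁻¹ = φ ζ * (φ ζ₁ * w * (φ ζ₁)⁻¹) * (φ ζ)⁻¹ := by rw [e3]; group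
      _ = w := by rw [e1, e0, inv_inv]
  rw [e4] at e2
  calc w * w = w * w⁻¹ := by rw [← e2]
    _ = 1 := mul_inv_cancel w

end Hyp

end Cfsg.Agent.H314.S6Fus
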